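import Groth.Prelude.Def_WeakSerre
import Groth.Agent.H9Misc.WayOut
import Mathlib.CategoryTheory.Abelian.Exact

/-! Derived categories with cohomology in a weak Serre class. -/

universe w v u

open CategoryTheory CategoryTheory.Limits CategoryTheory.Pretriangulated DerivedCategory

namespace Groth.Agent.SiteCmpC

open Groth.Agent.H9Misc

variable {C : Type u} [Category.{v} C] [Abelian C]

section Five

variable (P : ObjectProperty C) [WSerre.IsWeakSerre P] {X₁ X₂ X₃ X₄ X₅ : C}

theorem prop_middle (a : X₁ ⟶ X₂) (b : X₂ ⟶ X₃) (c : X₃ ⟶ X₄) (d : X₄ ⟶ X₅)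
    {wab : a ≫ b = 0} {wbc : b ≫ c = 0} {wcd : c ≫ d = 0}
    (e₂ : (ShortComplex.mk a b wab).Exact) (e₃ : (ShortComplex.mk b c wbc).Exact) (e₄ : (ShortComplex.mk c d wcd).Exact)
    (h₁ : P X₁) (h₂ : P X₂) (h₄ : P X₄) (h₅ : P X₅) : P X₃ := by
  let i : cokernel a ⟶ X₃ := cokernel.desc a b wab
  let q : X₃ ⟶ kernel d := kernel.lift d c wcd
  have wiq : i ≫ q = 0 := by
    apply coequalizer.hom_ext
    apply equalizer.hom_ext
    simp [i, q, wbc]
  have hm : Mono i := e₂.mono_cokernelDesc
  have he : Epi q := e₄.epi_kernelLift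
  have hex : (ShortComplex.mk i q wiq).Exact := by
    rw [ShortComplex.exact_iff_exact_up_to_refinements]
    intro T x hx
    have hx' : x ≫ c = 0 := by
      have h := congrArg (· ≫ kernel.ι d) hx
      simp only [q, Category.assoc, kernel.lift_ι, zero_comp] at h
      exact h
    obtain ⟨T', π, hπ, y, hy⟩ := e₃.exact_up_to_refinements x hx'
    exact ⟨T', π, hπ, y ≫ cokernel.π a, by simpa [i] using hy⟩
  exact P.prop_X₂_of_shortExact (ShortComplex.ShortExact.mk' hex hm he)
    (P.prop_cokernel a h₁ h₂)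
    (P.prop_kernel d h₄ h₅)

end Five

variable [HasDerivedCategory.{w} C] (P : ObjectProperty C)

lemma cohIn_of_iso [P.IsClosedUnderIsomorphisms] {X Y : DerivedCategory C} (e : X ≅ Y) (h : WSerre.cohIn P X) :
    WSerre.cohIn P Y := fun i => P.prop_of_iso ((homologyFunctor C i).mapIso e) (h i)

lemma isZero_homology_single (n i : ℤ) (h : i ≠ n) (M : C) :
    IsZero ((homologyFunctor C i).obj ((singleFunctor C n).obj M)) := by
  rcases lt_or_gt_of_ne h with h | h
  · exact isZero_of_isGE _ n i h
  · exact isZero_of_isLE _ n i h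

variable [WSerre.IsWeakSerre P]

lemma cohIn_obj₂ {T : Triangle (DerivedCategory C)} (hT : T ∈ distTriang _)
    (h₁ : WSerre.cohIn P T.obj₁) (h₃ : WSerre.cohIn P T.obj₃) : WSerre.cohIn P T.obj₂ := fun i =>
  prop_middle P (HomologySequence.δ T (i - 1) i (by omega)) ((homologyFunctor C i).map T.mor₁)
    ((homologyFunctor C i).map T.mor₂) (HomologySequence.δ T i (i + 1) rfl)
    (HomologySequence.exact₁ T hT (i - 1) i (by omega)) (HomologySequence.exact₂ T hT i)
    (HomologySequence.exact₃ T hT i (i + 1) rfl) (h₃ _) (h₁ _) (h₃ _) (h₁ _)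

lemma cohIn_single (n : ℤ) {M : C} (hM : P M) : WSerre.cohIn P ((singleFunctor C n).obj M) := fun i => by
  by_cases h : i = n
  · subst h
    exact P.prop_of_iso ((singleFunctorCompHomologyFunctorIso C i).app M).symm hM
  · exact P.prop_of_isZero (isZero_homology_single n i h M)

lemma cohIn_truncLT {X : DerivedCategory C} (h : WSerre.cohIn P X) (b : ℤ) :
    WSerre.cohIn P ((TStructure.t.truncLT b).obj X) := fun i =>
  WayOut.P_truncLT P (hP := fun _ hZ => P.prop_of_isZero hZ) h b i

lemma cohIn_truncGE {X : DerivedCategory C} (h : WSerre.cohIn P X) (b : ℤ) :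
    WSerre.cohIn P ((TStructure.t.truncGE b).obj X) := fun i =>
  WayOut.P_truncGE P (hP := fun _ hZ => P.prop_of_isZero hZ) h b i

omit [WSerre.IsWeakSerre P] in
/-- Induction on bounded objects with cohomology in `P`. -/
theorem bounded_induction [WSerre.IsWeakSerre P] (Q : ObjectProperty (DerivedCategory C))
    (hiso : ∀ {X Y : DerivedCategory C} (_ : X ≅ Y), Q X → Q Y)
    (hsingle : ∀ (n : ℤ) (M : C), P M → Q ((singleFunctor C n).obj M))
    (hext : ∀ T : Triangle (DerivedCategory C), T ∈ distTriang _ → WSerre.cohIn P T.obj₁ →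
      WSerre.cohIn P T.obj₃ → Q T.obj₁ → Q T.obj₃ → Q T.obj₂)
    (X : DerivedCategory C) (a b : ℤ) [X.IsGE a] [X.IsLE b] (hX : WSerre.cohIn P X) : Q X := by
  suffices ∀ (k : ℕ) (X : DerivedCategory C) (a b : ℤ), b ≤ a + k → X.IsGE a → X.IsLE b →
      WSerre.cohIn P X → Q X from this (b - a).toNat X a b (by omega) inferInstance inferInstance hX
  intro k
  induction k with
  | zero =>
    intro X a b hk hGE hLE hX
    have : X.IsLE a := TStructure.t.isLE_of_le X b a (by omega)
    obtain ⟨Y, ⟨e⟩⟩ := exists_iso_singleFunctor_obj_of_isGE_of_isLE X a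
    exact hiso e.symm (hsingle a Y (P.prop_of_iso ((homologyFunctor C a).mapIso e ≪≫
      (singleFunctorCompHomologyFunctorIso C a).app Y) (hX a)))
  | succ k ih =>
    intro X a b hk hGE hLE hX
    let T := (TStructure.t.triangleLTGE (a + 1)).obj X
    have hT : T ∈ distTriang _ := TStructure.t.triangleLTGE_distinguished (a + 1) X
    have h1 : WSerre.cohIn P T.obj₁ := cohIn_truncLT P hX (a + 1)
    have h3 : WSerre.cohIn P T.obj₃ := cohIn_truncGE P hX (a + 1)
    refine hext T hT h1 h3 ?_ ?_
    · exact ih _ a a (by omega) (KFlatLib.isGE_truncLT X a (a + 1))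
        (inferInstanceAs (TStructure.t.IsLE ((TStructure.t.truncLT (a + 1)).obj X) a)) h1
    · refine ih _ (a + 1) b (by omega)
        (inferInstanceAs (TStructure.t.IsGE ((TStructure.t.truncGE (a + 1)).obj X) (a + 1))) ?_ h3
      rw [isLE_iff]
      intro i hi
      rcases lt_or_ge i (a + 1) with h | h
      · have : DerivedCategory.IsGE ((TStructure.t.truncGE (a + 1)).obj X) (a + 1) :=
          inferInstanceAs (TStructure.t.IsGE ((TStructure.t.truncGE (a + 1)).obj X) (a + 1))
        exact isZero_of_isGE _ (a + 1) i h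
      · have := WayOut.isIso_H_truncGE X (a + 1) i h
        exact (isZero_of_isLE X b i hi).of_iso
          (asIso ((homologyFunctor C i).map ((TStructure.t.truncGEπ (a + 1)).app X))).symm

end Groth.Agent.SiteCmpC
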