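import Mathlib.Algebra.Homology.DerivedCategory.ExactFunctor
import Mathlib.CategoryTheory.Triangulated.Adjunction
import Groth.Agent.H9Misc.WayOut
import Groth.Agent.KFlatLib.PsiC

/-! Adjunctions whose left adjoint is induced by an exact functor, on bounded below objects. -/

universe w w' v v' u u'

open CategoryTheory CategoryTheory.Limits CategoryTheory.Pretriangulated DerivedCategory

namespace Groth.Agent.SiteCmpC

open Groth.Agent.H9Misc

variable {A : Type u} [Category.{v} A] [Abelian A] [HasDerivedCategory.{w} A]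
  {B : Type u'} [Category.{v'} B] [Abelian B] [HasDerivedCategory.{w'} B]
  (F : A ⥤ B) [F.Additive] [PreservesFiniteLimits F] [PreservesFiniteColimits F]

/-- Cohomology of the image. -/
noncomputable def homologyMapIso (X : DerivedCategory A) (i : ℤ) :
    (homologyFunctor B i).obj (F.mapDerivedCategory.obj X) ≅ F.obj ((homologyFunctor A i).obj X) :=
  (KFlatLib.mapDCHomologyIso F i).app X

lemma isGE_map (X : DerivedCategory A) (n : ℤ) [X.IsGE n] : (F.mapDerivedCategory.obj X).IsGE n := by
  rw [DerivedCategory.isGE_iff]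
  intro i hi
  exact (F.map_isZero (X.isZero_of_isGE n i hi)).of_iso (homologyMapIso F X i)

lemma isLE_map (X : DerivedCategory A) (n : ℤ) [X.IsLE n] : (F.mapDerivedCategory.obj X).IsLE n := by
  rw [DerivedCategory.isLE_iff]
  intro i hi
  exact (F.map_isZero (X.isZero_of_isLE n i hi)).of_iso (homologyMapIso F X i)

variable {F} {R : DerivedCategory B ⥤ DerivedCategory A} (adj : F.mapDerivedCategory ⊣ R)

include adj in
lemma isGE_right (Y : DerivedCategory B) (n : ℤ) [Y.IsGE n] : (R.obj Y).IsGE n := by
  rw [DerivedCategory.isGE_iff]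
  intro i hi
  haveI hT : DerivedCategory.IsLE ((TStructure.t.truncLT n).obj (R.obj Y)) (n - 1) :=
    inferInstanceAs (TStructure.t.IsLE ((TStructure.t.truncLT n).obj (R.obj Y)) (n - 1))
  have h0 : (TStructure.t.truncLTι n).app (R.obj Y) = 0 := by
    apply (adj.homEquiv _ _).symm.injective
    haveI := isLE_map F ((TStructure.t.truncLT n).obj (R.obj Y)) (n - 1)
    have key : ∀ g : F.mapDerivedCategory.obj ((TStructure.t.truncLT n).obj (R.obj Y)) ⟶ Y, g = 0 :=
      fun g => @Triangulated.TStructure.zero _ _ _ _ _ _ _ TStructure.t _ _ g (n - 1) n (by omega) (by assumption) (by assumption)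
    exact (key _).trans (key _).symm
  have := KFlatLib.isIso_homology_truncLTι (R.obj Y) n i hi
  rw [h0, Functor.map_zero] at this
  exact IsZero.of_epi_zero ((homologyFunctor A i).obj ((TStructure.t.truncLT n).obj (R.obj Y))) _

include adj in
lemma isTriangulated_right : letI := adj.rightAdjointCommShift ℤ; R.IsTriangulated := by
  letI := adj.rightAdjointCommShift ℤ
  haveI := adj.commShift_of_leftAdjoint ℤ
  exact adj.isTriangulated_rightAdjoint

theorem isIso_unit_of_isGE (X : DerivedCategory A) (a : ℤ) [X.IsGE a]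
    (h : ∀ i : ℤ, IsIso (adj.unit.app ((singleFunctor A 0).obj ((homologyFunctor A i).obj X)))) :
    IsIso (adj.unit.app X) := by
  letI := adj.rightAdjointCommShift ℤ
  haveI := adj.commShift_of_leftAdjoint ℤ
  haveI : R.IsTriangulated := adj.isTriangulated_rightAdjoint
  let P : ObjectProperty A := fun M => IsIso (adj.unit.app ((singleFunctor A 0).obj M))
  have : P.IsClosedUnderIsomorphisms :=
    ⟨fun e h => WayOut.isIso_of_iso adj.unit ((singleFunctor A 0).mapIso e) h⟩
  refine WayOut.isIso_of_wayOutRight adj.unit P (fun M hM => hM)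
    (fun n => ⟨n, fun Y hY => hY⟩) (fun n => ⟨n, fun Y hY => ?_⟩) X a h
  haveI := isGE_map F Y n
  exact isGE_right adj _ n

theorem isIso_counit_of_isGE (X : DerivedCategory B) (a : ℤ) [X.IsGE a]
    (h : ∀ i : ℤ, IsIso (adj.counit.app ((singleFunctor B 0).obj ((homologyFunctor B i).obj X)))) :
    IsIso (adj.counit.app X) := by
  letI := adj.rightAdjointCommShift ℤ
  haveI := adj.commShift_of_leftAdjoint ℤ
  haveI : R.IsTriangulated := adj.isTriangulated_rightAdjoint
  let P : ObjectProperty B := fun M => IsIso (adj.counit.app ((singleFunctor B 0).obj M))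
  have : P.IsClosedUnderIsomorphisms :=
    ⟨fun e h => WayOut.isIso_of_iso adj.counit ((singleFunctor B 0).mapIso e) h⟩
  refine WayOut.isIso_of_wayOutRight adj.counit P (fun M hM => hM)
    (fun n => ⟨n, fun Y hY => ?_⟩) (fun n => ⟨n, fun Y hY => hY⟩) X a h
  haveI := isGE_right adj Y n
  exact isGE_map F _ n

end Groth.Agent.SiteCmpC
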