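import Groth.Agent.SiteCmpC.Rlim
import Groth.Agent.TriCat.RightDerivedBridge
import Groth.Agent.TriCat.LiftKInj
import Mathlib.Algebra.Homology.DerivedCategory.KInjective

/-! Derived direct images are computed by K-injective complexes. -/

universe w v v' u u'

open CategoryTheory CategoryTheory.Limits DerivedCategory

attribute [local instance] HasDerivedCategory.standard

namespace Groth.Agent.SiteCmpC

variable {A : Type (u + 1)} [Category.{u} A] [Abelian A]
  {B : Type (u + 1)} [Category.{u} B] [Abelian B] [IsGrothendieckAbelian.{u} B] (G : B ⥤ A) [G.Additive]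
  [(G.mapHomotopyCategory (ComplexShape.up ℤ) ⋙ Qh).HasRightDerivedFunctor
      (HomotopyCategory.quasiIso B (ComplexShape.up ℤ))]

/-- The derived functor of `G`. -/
noncomputable abbrev RD : DerivedCategory B ⥤ DerivedCategory A :=
  (G.mapHomotopyCategory (ComplexShape.up ℤ) ⋙ Qh).totalRightDerived Qh
      (HomotopyCategory.quasiIso B (ComplexShape.up ℤ))

/-- `G` on complexes, into the derived category. -/
noncomputable abbrev GQ : CochainComplex B ℤ ⥤ DerivedCategory A :=
  G.mapHomologicalComplex (ComplexShape.up ℤ) ⋙ Q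

/-- The comparison map. -/
noncomputable def rdUnit : GQ G ⟶ Q ⋙ RD G :=
  Functor.whiskerLeft (G.mapHomologicalComplex (ComplexShape.up ℤ)) (quotientCompQhIso A).inv ≫
  Functor.whiskerLeft (HomotopyCategory.quotient B (ComplexShape.up ℤ))
    ((G.mapHomotopyCategory (ComplexShape.up ℤ) ⋙ Qh).totalRightDerivedUnit Qh
      (HomotopyCategory.quasiIso B (ComplexShape.up ℤ))) ≫
  Functor.whiskerRight (quotientCompQhIso B).hom (RD G)

lemma isIso_rdUnit (I : CochainComplex B ℤ) [I.IsKInjective] : IsIso ((rdUnit G).app I) := by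
  have := TriCat.qh_isLeftAdjoint_of_exists_resolution (A := B) fun L => by
    obtain ⟨J, f, hJ, hf, -, -⟩ := TriCat.exists_kInjective_resolution' L
    exact ⟨J, f, hJ, hf⟩
  let F := G.mapHomotopyCategory (ComplexShape.up ℤ) ⋙ Qh (C := A)
  let adjQ := Adjunction.ofIsLeftAdjoint (Qh (C := B))
  let ρ := (Qh (C := B)).rightAdjoint
  let W := HomotopyCategory.quasiIso B (ComplexShape.up ℤ)
  have := TriCat.isRightDerivedFunctor_of_adjunction adjQ W F
  let α := F.totalRightDerivedUnit Qh W
  let e : ρ ⋙ F ≅ F.totalRightDerived Qh W :=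
    Functor.rightDerivedUnique _ _ (Functor.whiskerRight adjQ.unit F) α W
  let qI := (HomotopyCategory.quotient B (ComplexShape.up ℤ)).obj I
  have : IsIso (adjQ.unit.app qI) := TriCat.isIso_unit_of_isKInjective adjQ I
  have h : α.app qI = F.map (adjQ.unit.app qI) ≫ e.hom.app (Qh.obj qI) :=
    ((Functor.rightDerivedNatTrans_app (ρ ⋙ F) (F.totalRightDerived Qh W)
      (Functor.whiskerRight adjQ.unit F) α W (𝟙 _) qI).trans (Category.id_comp _)).symm
  have : IsIso (α.app qI) := by
    rw [h]
    exact IsIso.comp_isIso' inferInstance (e.app (Qh.obj qI)).isIso_hom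
  simp only [rdUnit, NatTrans.comp_app]
  exact IsIso.comp_isIso' inferInstance (IsIso.comp_isIso' this inferInstance)

theorem isGE_RD (X : DerivedCategory B) (n : ℤ) [X.IsGE n] : DerivedCategory.IsGE ((RD G).obj X) n := by
  obtain ⟨K, hK, ⟨e⟩⟩ := DerivedCategory.exists_iso_Q_obj_of_isGE X n
  obtain ⟨J, α, hJ, hJi, hm, hq⟩ := TriCat.exists_quasiIso_resolution (fun X : B => Injective X)
    ⟨_, isZero_zero B, Injective.zero_injective⟩
    (fun X => ⟨Injective.under X, Injective.ι X, inferInstance, inferInstance⟩) K n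
  have := hJi
  have : J.IsKInjective := CochainComplex.isKInjective_of_injective J n
  have := isIso_rdUnit G J
  let i : (GQ G).obj J ≅ (RD G).obj X :=
    asIso ((rdUnit G).app J) ≪≫ (RD G).mapIso ((asIso (Q.map α)).symm ≪≫ e.symm)
  have : DerivedCategory.IsGE (Q.obj ((G.mapHomologicalComplex (ComplexShape.up ℤ)).obj J)) n := inferInstance
  have : TStructure.t.IsGE ((GQ G).obj J) n := this
  exact TStructure.t.isGE_of_iso i n

/-- Cohomology of the derived functor on an object. -/
theorem nonempty_homology_RD_single [HasInjectiveResolutions B] (F : B) (p : ℕ) :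
    Nonempty ((homologyFunctor A (p : ℤ)).obj ((RD G).obj ((singleFunctor B 0).obj F)) ≅ (G.rightDerived p).obj F) := by
  let R := injectiveResolution F
  have : ∀ n : ℤ, Injective (R.cochainComplex.X n) := inferInstance
  have : R.cochainComplex.IsKInjective := CochainComplex.isKInjective_of_injective R.cochainComplex 0
  have := isIso_rdUnit G R.cochainComplex
  have : IsIso (Q.map R.ι') := (isIso_Q_map_iff_quasiIso (φ := R.ι')).2 inferInstance
  let i : (RD G).obj ((singleFunctor B 0).obj F) ≅ (GQ G).obj R.cochainComplex :=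
    (RD G).mapIso (@asIso _ _ _ _ (Q.map R.ι') (by assumption) : (singleFunctor B 0).obj F ≅ Q.obj R.cochainComplex) ≪≫ (asIso ((rdUnit G).app R.cochainComplex)).symm
  exact ⟨(homologyFunctor A (p : ℤ)).mapIso i ≪≫ (homologyFunctorFactors A (p : ℤ)).app _ ≪≫
    TriCat.homologyResIso G R p ≪≫ (R.isoRightDerivedObj G p).symm⟩

end Groth.Agent.SiteCmpC
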