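import Mathlib.CategoryTheory.Abelian.Injective.Resolution
import Mathlib.Algebra.Homology.HomologySequence
import Mathlib.Algebra.Homology.HomologicalComplexAbelian
import Mathlib.CategoryTheory.Abelian.Refinements

/-! Comparison maps into injective complexes exact in positive degrees. -/

set_option autoImplicit false

universe v u

open CategoryTheory CategoryTheory.Limits

namespace Groth.Agent.SiteCmpC.Ladder

variable {V : Type u} [Category.{v} V] [Abelian V] {A B J : CochainComplex V ℕ}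

lemma exact_succ (hA : ∀ n, 0 < n → A.ExactAt n) (n : ℕ) :
    (ShortComplex.mk (A.d n (n + 1)) (A.d (n + 1) (n + 2)) (A.d_comp_d _ _ _)).Exact :=
  (HomologicalComplex.exactAt_iff' A n (n + 1) (n + 2) (by simp) (by simp [add_assoc])).1 (hA (n + 1) (by omega))

lemma exact₀ (A : CochainComplex V ℕ) :
    (ShortComplex.mk (A.iCycles 0) (A.d 0 1) (A.iCycles_d _ _)).Exact :=
  ShortComplex.exact_of_f_is_kernel _ (A.cyclesIsKernel 0 1 (by simp))

variable (A J) in
lemma exists_map (hA : ∀ n, 0 < n → A.ExactAt n) (hJ : ∀ n, Injective (J.X n)) (h : A.homology 0 ⟶ J.homology 0) :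
    ∃ f : A ⟶ J, HomologicalComplex.homologyMap f 0 = h := by
  let φ : A.cycles 0 ⟶ J.cycles 0 := A.homologyπ 0 ≫ h ≫ inv (J.homologyπ 0)
  let z : A.X 0 ⟶ J.X 0 := Injective.factorThru (φ ≫ J.iCycles 0) (A.iCycles 0)
  have hz : A.iCycles 0 ≫ z = φ ≫ J.iCycles 0 := Injective.comp_factorThru _ _
  let o : A.X 1 ⟶ J.X 1 := (exact₀ A).descToInjective (z ≫ J.d 0 1) (by
    dsimp
    rw [reassoc_of% hz, J.iCycles_d, comp_zero])
  have ho : A.d 0 1 ≫ o = z ≫ J.d 0 1 := (exact₀ A).comp_descToInjective _ _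
  let f : A ⟶ J := CochainComplex.mkHom A J z o ho.symm fun n p =>
    ⟨(exact_succ hA n).descToInjective (p.2.1 ≫ J.d (n + 1) (n + 2)) (by
        dsimp; rw [← reassoc_of% p.2.2, J.d_comp_d, comp_zero]),
      ((exact_succ hA n).comp_descToInjective _ _).symm⟩
  refine ⟨f, ?_⟩
  have hc : HomologicalComplex.cyclesMap f 0 = φ := by
    rw [← cancel_mono (J.iCycles 0), HomologicalComplex.cyclesMap_i]
    exact hz
  rw [← cancel_epi (A.homologyπ 0), HomologicalComplex.homologyπ_naturality, hc]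
  simp [φ]

lemma nonempty_homotopy (hA : ∀ n, 0 < n → A.ExactAt n) (hJ : ∀ n, Injective (J.X n)) (e : A ⟶ J)
    (he : HomologicalComplex.homologyMap e 0 = 0) : Nonempty (Homotopy e 0) := by
  have hc : A.iCycles 0 ≫ e.f 0 = 0 := by
    have h1 : HomologicalComplex.cyclesMap e 0 = 0 := by
      rw [← cancel_mono (J.homologyπ 0), ← HomologicalComplex.homologyπ_naturality, he, comp_zero, zero_comp]
    rw [← HomologicalComplex.cyclesMap_i, h1, zero_comp]
  let z : A.X 1 ⟶ J.X 0 := (exact₀ A).descToInjective (e.f 0) hc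
  have hz : A.d 0 1 ≫ z = e.f 0 := (exact₀ A).comp_descToInjective _ _
  let o : A.X 2 ⟶ J.X 1 := (exact_succ hA 0).descToInjective (e.f 1 - z ≫ J.d 0 1) (by
    dsimp; rw [Preadditive.comp_sub, reassoc_of% hz, e.comm, sub_self])
  have ho : A.d 1 2 ≫ o = e.f 1 - z ≫ J.d 0 1 := (exact_succ hA 0).comp_descToInjective _ _
  have hsucc : ∀ (n : ℕ) (g : A.X (n + 1) ⟶ J.X n) (g' : A.X (n + 2) ⟶ J.X (n + 1)),
      e.f (n + 1) = g ≫ J.d n (n + 1) + A.d (n + 1) (n + 2) ≫ g' →
      A.d (n + 1) (n + 2) ≫ (e.f (n + 2) - g' ≫ J.d (n + 1) (n + 2)) = 0 := fun n g g' w => by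
    rw [Preadditive.comp_sub, ← HomologicalComplex.Hom.comm, w, Preadditive.add_comp,
      Category.assoc, Category.assoc, HomologicalComplex.d_comp_d, comp_zero, zero_add, sub_self]
  refine ⟨Homotopy.mkCoinductive e z hz.symm o (by rw [ho]; abel) fun n p =>
    ⟨(exact_succ hA (n + 1)).descToInjective (e.f (n + 2) - p.2.1 ≫ J.d (n + 1) (n + 2))
        (hsucc n p.1 p.2.1 p.2.2), ?_⟩⟩
  have h := (exact_succ hA (n + 1)).comp_descToInjective (e.f (n + 2) - p.2.1 ≫ J.d (n + 1) (n + 2))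
        (hsucc n p.1 p.2.1 p.2.2)
  dsimp at h ⊢
  rw [h]
  abel

/-- Extension along a degreewise monomorphism. -/
lemma exists_extension (hA : ∀ n, 0 < n → A.ExactAt n) (hB : ∀ n, 0 < n → B.ExactAt n)
    (hJ : ∀ n, Injective (J.X n)) (j : A ⟶ B) (hj : ∀ n, Mono (j.f n)) (φ : A ⟶ J)
    (h : B.homology 0 ⟶ J.homology 0)
    (w : HomologicalComplex.homologyMap j 0 ≫ h = HomologicalComplex.homologyMap φ 0) :
    ∃ ψ : B ⟶ J, j ≫ ψ = φ ∧ HomologicalComplex.homologyMap ψ 0 = h := by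
  obtain ⟨ψ₀, hψ₀⟩ := exists_map B J hB hJ h
  obtain ⟨s⟩ := nonempty_homotopy hA hJ (j ≫ ψ₀ - φ) (by
    rw [HomologicalComplex.homologyMap_sub, HomologicalComplex.homologyMap_comp, hψ₀, w, sub_self])
  let t : ∀ i k, (ComplexShape.up ℕ).Rel k i → (B.X i ⟶ J.X k) := fun i k _ =>
    Injective.factorThru (s.hom i k) (j.f i)
  have ht : ∀ i k hik, j.f i ≫ t i k hik = s.hom i k := fun i k _ => Injective.comp_factorThru _ _
  have hN : j ≫ Homotopy.nullHomotopicMap' t = j ≫ ψ₀ - φ := by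
    rw [Homotopy.comp_nullHomotopicMap']
    have he : (fun i k hik => j.f i ≫ t i k hik) = fun i k (_ : (ComplexShape.up ℕ).Rel k i) => s.hom i k :=
      funext fun i => funext fun k => funext fun hik => ht i k hik
    rw [he, show (Homotopy.nullHomotopicMap' fun i k (_ : (ComplexShape.up ℕ).Rel k i) => s.hom i k) =
      Homotopy.nullHomotopicMap s.hom by unfold Homotopy.nullHomotopicMap'; congr 1; funext i k; split_ifs with h'; rfl; exact (s.zero i k h').symm]
    ext i
    have hs := s.comm i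
    simp only [HomologicalComplex.zero_f, add_zero] at hs
    rw [hs]
    rfl
  refine ⟨ψ₀ - Homotopy.nullHomotopicMap' t, by rw [Preadditive.comp_sub, hN, sub_sub_cancel], ?_⟩
  rw [HomologicalComplex.homologyMap_sub, (Homotopy.nullHomotopy' t).homologyMap_eq, HomologicalComplex.homologyMap_zero,
    sub_zero, hψ₀]

theorem exists_ladder {C' C C'' I' I I'' : CochainComplex V ℕ}
    (jC : C' ⟶ C) (πC : C ⟶ C'') (jI : I' ⟶ I) (πI : I ⟶ I'')
    (mC : ∀ n, Mono (jC.f n)) (wC : ∀ n, jC.f n ≫ πC.f n = 0)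
    (exC : ∀ n, (ShortComplex.mk (jC.f n) (πC.f n) (wC n)).Exact)
    (wI : ∀ n, jI.f n ≫ πI.f n = 0)
    (hC' : ∀ n, 0 < n → C'.ExactAt n) (hC : ∀ n, 0 < n → C.ExactAt n) (hC'' : ∀ n, 0 < n → C''.ExactAt n)
    (injI' : ∀ n, Injective (I'.X n)) (injI : ∀ n, Injective (I.X n)) (injI'' : ∀ n, Injective (I''.X n))
    (g' : C'.homology 0 ⟶ I'.homology 0) (g : C.homology 0 ⟶ I.homology 0)
    (g'' : C''.homology 0 ⟶ I''.homology 0)
    (hg1 : HomologicalComplex.homologyMap jC 0 ≫ g = g' ≫ HomologicalComplex.homologyMap jI 0)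
    (hg2 : HomologicalComplex.homologyMap πC 0 ≫ g'' = g ≫ HomologicalComplex.homologyMap πI 0) :
    ∃ (f' : C' ⟶ I') (f : C ⟶ I) (f'' : C'' ⟶ I''),
      jC ≫ f = f' ≫ jI ∧ πC ≫ f'' = f ≫ πI ∧
      HomologicalComplex.homologyMap f' 0 = g' ∧ HomologicalComplex.homologyMap f 0 = g ∧
      HomologicalComplex.homologyMap f'' 0 = g'' := by
  obtain ⟨f', hf'⟩ := exists_map C' I' hC' injI' g'
  obtain ⟨f, hf, hf0⟩ := exists_extension hC' hC injI jC mC (f' ≫ jI) g
    (by rw [HomologicalComplex.homologyMap_comp, hf', hg1])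
  have : Mono jC := HomologicalComplex.mono_of_mono_f jC mC
  let S := ShortComplex.mk jC (cokernel.π jC) (cokernel.condition jC)
  have hS : S.ShortExact := ShortComplex.ShortExact.mk' (ShortComplex.exact_of_g_is_cokernel S (cokernelIsCokernel jC))
    ‹_› (inferInstanceAs (Epi (cokernel.π jC)))
  have wC' : jC ≫ πC = 0 := HomologicalComplex.hom_ext _ _ wC
  have wI' : jI ≫ πI = 0 := HomologicalComplex.hom_ext _ _ wI
  let p : cokernel jC ⟶ C'' := cokernel.desc jC πC wC'
  have hP : ∀ n, 0 < n → (cokernel jC).ExactAt n := fun n hn => by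
    rw [HomologicalComplex.exactAt_iff_isZero_homology]
    exact (hS.homology_exact₃ n (n + 1) (by simp)).isZero_X₂
      ((HomologicalComplex.exactAt_iff_isZero_homology _ _).1 (hC n hn) |>.eq_of_src _ _)
      ((HomologicalComplex.exactAt_iff_isZero_homology _ _).1 (hC' (n + 1) (by omega)) |>.eq_of_tgt _ _)
  have hp : ∀ n, Mono (p.f n) := fun n => by
    refine Preadditive.mono_of_cancel_zero _ fun {T} x hx => ?_
    have : Epi ((cokernel.π jC).f n) :=
      inferInstanceAs (Epi ((HomologicalComplex.eval V (ComplexShape.up ℕ) n).map (cokernel.π jC)))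
    obtain ⟨T', q, hq, y, hy⟩ := surjective_up_to_refinements_of_epi ((cokernel.π jC).f n) x
    have hy' : y ≫ πC.f n = 0 := by
      rw [show πC.f n = (cokernel.π jC).f n ≫ p.f n by rw [← HomologicalComplex.comp_f, cokernel.π_desc],
        ← reassoc_of% hy, hx, comp_zero]
    obtain ⟨T'', q', hq', a, ha⟩ := (exC n).exact_up_to_refinements y hy'
    rw [← cancel_epi q, hy, comp_zero, ← cancel_epi q', comp_zero, reassoc_of% ha]
    rw [← HomologicalComplex.comp_f, cokernel.condition, HomologicalComplex.zero_f, comp_zero]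
  have : Epi (HomologicalComplex.homologyMap (cokernel.π jC) 0) :=
    (hS.homology_exact₃ 0 1 (by simp)).epi_f
      (((HomologicalComplex.exactAt_iff_isZero_homology _ _).1 (hC' 1 one_pos)).eq_of_tgt _ _)
  obtain ⟨f'', hf'', hf''0⟩ := exists_extension hP hC'' injI'' p hp
    (cokernel.desc jC (f ≫ πI) (by rw [reassoc_of% hf, wI', comp_zero])) g'' (by
      rw [← cancel_epi (HomologicalComplex.homologyMap (cokernel.π jC) 0), ← Category.assoc,
        ← HomologicalComplex.homologyMap_comp, ← HomologicalComplex.homologyMap_comp, cokernel.π_desc, cokernel.π_desc,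
        hg2, HomologicalComplex.homologyMap_comp, hf0])
  refine ⟨f', f, f'', hf, ?_, hf', hf0, hf''0⟩
  rw [← cokernel.π_desc jC πC wC', Category.assoc, hf'', cokernel.π_desc]

end Groth.Agent.SiteCmpC.Ladder
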