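import Mathlib.CategoryTheory.Triangulated.Functor
import Mathlib.CategoryTheory.Triangulated.Pretriangulated

/-! Bijectivity of a triangulated functor on morphisms, by dévissage. -/

universe v v' u u'

open CategoryTheory CategoryTheory.Limits CategoryTheory.Pretriangulated

namespace Groth.Agent.SiteCmpC

variable {T₀ : Type u} [Category.{v} T₀] [Preadditive T₀] [HasZeroObject T₀] [HasShift T₀ ℤ]
  [∀ n : ℤ, (shiftFunctor T₀ n).Additive] [Pretriangulated T₀]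
  {T₁ : Type u'} [Category.{v'} T₁] [Preadditive T₁] [HasZeroObject T₁] [HasShift T₁ ℤ]
  [∀ n : ℤ, (shiftFunctor T₁ n).Additive] [Pretriangulated T₁]
  (L : T₀ ⥤ T₁) [L.CommShift ℤ]

omit [Preadditive T₀] [HasZeroObject T₀] [HasShift T₀ ℤ] [Preadditive T₁] [HasZeroObject T₁] [HasShift T₁ ℤ] in
lemma mapBij_of_iso {X X' Y Y' : T₀} (e : X ≅ X') (e' : Y ≅ Y')
    (h : Function.Bijective (L.map : (X ⟶ Y) → _)) : Function.Bijective (L.map : (X' ⟶ Y') → _) := by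
  refine ⟨fun a b hab => ?_, fun φ => ?_⟩
  · have := h.1 (a₁ := e.hom ≫ a ≫ e'.inv) (a₂ := e.hom ≫ b ≫ e'.inv) (by rw [L.map_comp, L.map_comp, L.map_comp, L.map_comp, hab])
    exact (cancel_mono e'.inv).1 ((cancel_epi e.hom).1 this)
  · obtain ⟨g, hg⟩ := h.2 (L.map e.hom ≫ φ ≫ L.map e'.inv)
    exact ⟨e.inv ≫ g ≫ e'.hom, by rw [L.map_comp, L.map_comp, hg]; simp⟩

omit [Preadditive T₀] [HasZeroObject T₀] [Preadditive T₁] [HasZeroObject T₁] in
lemma mapBij_shift {X Y : T₀} (m : ℤ) (h : Function.Bijective (L.map : (X ⟶ Y) → _)) :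
    Function.Bijective (L.map : (X⟦m⟧ ⟶ Y⟦m⟧) → _) := by
  refine ⟨fun a b hab => ?_, fun φ => ?_⟩
  · obtain ⟨a, rfl⟩ := (shiftFunctor T₀ m).map_surjective a
    obtain ⟨b, rfl⟩ := (shiftFunctor T₀ m).map_surjective b
    congr 1
    apply h.1
    apply (shiftFunctor T₁ m).map_injective
    have ha := (L.commShiftIso m).hom.naturality a
    have hb := (L.commShiftIso m).hom.naturality b
    dsimp at ha hb
    rw [← cancel_epi ((L.commShiftIso m).hom.app X), ← ha, ← hb, hab]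
  · obtain ⟨g, hg⟩ := (shiftFunctor T₁ m).map_surjective
      ((L.commShiftIso m).inv.app X ≫ φ ≫ (L.commShiftIso m).hom.app Y)
    obtain ⟨f, rfl⟩ := h.2 g
    refine ⟨f⟦m⟧', ?_⟩
    have := (L.commShiftIso m).hom.naturality f
    dsimp at this
    rw [hg] at this
    rw [← cancel_mono ((L.commShiftIso m).hom.app Y), this]
    simp

/-- Bijectivity on morphisms into all shifts. -/
def BijAll (K N : T₀) : Prop := ∀ n : ℤ, Function.Bijective (L.map : (K ⟶ N⟦n⟧) → _)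

variable {L}

omit [HasZeroObject T₀] [∀ n : ℤ, (shiftFunctor T₀ n).Additive] [Pretriangulated T₀] [HasZeroObject T₁]
  [∀ n : ℤ, (shiftFunctor T₁ n).Additive] [Pretriangulated T₁] [Preadditive T₀] [Preadditive T₁] in
lemma BijAll.shift_right {K N : T₀} (h : BijAll L K N) (a : ℤ) : BijAll L K (N⟦a⟧) := fun n =>
  mapBij_of_iso L (Iso.refl K) ((shiftFunctorAdd T₀ a n).app N) (h (a + n))

omit [HasZeroObject T₀] [∀ n : ℤ, (shiftFunctor T₀ n).Additive] [Pretriangulated T₀] [HasZeroObject T₁]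
  [∀ n : ℤ, (shiftFunctor T₁ n).Additive] [Pretriangulated T₁] [Preadditive T₀] [Preadditive T₁] in
lemma BijAll.shift_left {K N : T₀} (h : BijAll L K N) (a : ℤ) : BijAll L (K⟦a⟧) N := fun n =>
  mapBij_of_iso L (Iso.refl _) (((shiftFunctorAdd' T₀ (n - a) a n (by omega))).app N).symm
    (mapBij_shift L a (h (n - a)))

omit [HasZeroObject T₀] [∀ n : ℤ, (shiftFunctor T₀ n).Additive] [Pretriangulated T₀] [HasZeroObject T₁]
  [∀ n : ℤ, (shiftFunctor T₁ n).Additive] [Pretriangulated T₁] [Preadditive T₀] [Preadditive T₁] in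
lemma BijAll.zero {K N : T₀} (h : BijAll L K N) : Function.Bijective (L.map : (K ⟶ N) → _) :=
  mapBij_of_iso L (Iso.refl K) ((shiftFunctorZero T₀ ℤ).app N) (h 0)

omit [HasZeroObject T₀] [∀ n : ℤ, (shiftFunctor T₀ n).Additive] [Pretriangulated T₀] [HasZeroObject T₁]
  [∀ n : ℤ, (shiftFunctor T₁ n).Additive] [Pretriangulated T₁] [Preadditive T₀] [Preadditive T₁] in
lemma BijAll.of_iso {K K' N N' : T₀} (e : K ≅ K') (e' : N ≅ N') (h : BijAll L K N) : BijAll L K' N' :=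
  fun n => mapBij_of_iso L e ((shiftFunctor T₀ n).mapIso e') (h n)

variable [L.Additive] [L.IsTriangulated]

omit [L.Additive] in
lemma bij_obj₂_right {K : T₀} {T : Triangle T₀} (hT : T ∈ distTriang T₀) (h₁ : BijAll L K T.obj₁)
    (h₃ : BijAll L K T.obj₃) : Function.Bijective (L.map : (K ⟶ T.obj₂) → _) := by
  have hL : L.mapTriangle.obj T ∈ distTriang T₁ := L.map_distinguished _ hT
  refine ⟨(injective_iff_map_eq_zero (L.mapAddHom : (K ⟶ T.obj₂) →+ _)).2 fun g hg => ?_, fun φ => ?_⟩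
  · replace hg : L.map g = 0 := hg
    obtain ⟨h, rfl⟩ := T.coyoneda_exact₂ hT g (h₃.zero.1 (by simp [hg]))
    have hh : L.map h ≫ (L.mapTriangle.obj T.invRotate).mor₂ = 0 := by
      show L.map h ≫ L.map T.mor₁ = 0
      rw [← L.map_comp, hg]
    obtain ⟨y, hy⟩ := (L.mapTriangle.obj T.invRotate).coyoneda_exact₂
      (L.map_distinguished _ (inv_rot_of_distTriang _ hT)) (L.map h) hh
    obtain ⟨y', rfl⟩ := (h₃.shift_right (-1)).zero.2 y
    have : h = y' ≫ T.invRotate.mor₁ := h₁.zero.1 (hy.trans (L.map_comp y' T.invRotate.mor₁).symm)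
    subst this
    exact (Category.assoc _ _ _).trans
      ((congrArg (y' ≫ ·) (comp_distTriang_mor_zero₁₂ _ (inv_rot_of_distTriang _ hT))).trans comp_zero)
  · obtain ⟨ψ, hψ⟩ := h₃.zero.2 (φ ≫ L.map T.mor₂)
    obtain ⟨g, rfl⟩ := T.coyoneda_exact₃ hT ψ ((h₁ 1).1 (by
      rw [L.map_comp, hψ, Category.assoc, ← L.map_comp, comp_distTriang_mor_zero₂₃ _ hT, L.map_zero, comp_zero,
        L.map_zero]))
    obtain ⟨z, hz⟩ := (L.mapTriangle.obj T).coyoneda_exact₂ hL (φ - L.map g) (by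
      show (φ - L.map g) ≫ L.map T.mor₂ = 0
      rw [Preadditive.sub_comp, ← hψ, L.map_comp, sub_self])
    obtain ⟨z', rfl⟩ := h₁.zero.2 z
    refine ⟨g + z' ≫ T.mor₁, ?_⟩
    rw [L.map_add, L.map_comp]
    exact (add_comm _ _).trans (sub_eq_iff_eq_add.1 hz).symm

omit [L.Additive] in
lemma BijAll.obj₂_right {K : T₀} {T : Triangle T₀} (hT : T ∈ distTriang T₀) (h₁ : BijAll L K T.obj₁)
    (h₃ : BijAll L K T.obj₃) : BijAll L K T.obj₂ := fun n =>
  bij_obj₂_right (T := (Triangle.shiftFunctor T₀ n).obj T) (Triangle.shift_distinguished T hT n)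
    (h₁.shift_right n) (h₃.shift_right n)

omit [L.Additive] in
lemma bij_obj₂_left {N : T₀} {T : Triangle T₀} (hT : T ∈ distTriang T₀) (h₁ : BijAll L T.obj₁ N)
    (h₃ : BijAll L T.obj₃ N) : Function.Bijective (L.map : (T.obj₂ ⟶ N) → _) := by
  have hL : L.mapTriangle.obj T ∈ distTriang T₁ := L.map_distinguished _ hT
  refine ⟨(injective_iff_map_eq_zero (L.mapAddHom : (T.obj₂ ⟶ N) →+ _)).2 fun g hg => ?_, fun φ => ?_⟩
  · replace hg : L.map g = 0 := hg
    obtain ⟨h, rfl⟩ := T.yoneda_exact₂ hT g (h₁.zero.1 (by simp [hg]))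
    have hh : (L.mapTriangle.obj T.rotate).mor₁ ≫ L.map h = 0 := by
      show L.map T.mor₂ ≫ L.map h = 0
      rw [← L.map_comp, hg]
    obtain ⟨y, hy⟩ := (L.mapTriangle.obj T.rotate).yoneda_exact₂
      (L.map_distinguished _ (rot_of_distTriang _ hT)) (L.map h) hh
    obtain ⟨y', rfl⟩ := (h₁.shift_left 1).zero.2 y
    have : h = T.rotate.mor₂ ≫ y' := h₃.zero.1 (hy.trans (L.map_comp T.rotate.mor₂ y').symm)
    subst this
    exact (Category.assoc _ _ _).symm.trans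
      ((congrArg (· ≫ y') (comp_distTriang_mor_zero₂₃ _ hT)).trans zero_comp)
  · obtain ⟨ψ, hψ⟩ := h₁.zero.2 (L.map T.mor₁ ≫ φ)
    have w : T.invRotate.mor₁ ≫ T.mor₁ = 0 := comp_distTriang_mor_zero₁₂ _ (inv_rot_of_distTriang _ hT)
    obtain ⟨g, (hg : ψ = T.mor₁ ≫ g)⟩ := T.invRotate.yoneda_exact₂ (inv_rot_of_distTriang _ hT) ψ
      ((h₃.shift_left (-1)).zero.1 (by
        refine (L.map_comp T.invRotate.mor₁ ψ).trans ?_
        refine (congrArg (L.map T.invRotate.mor₁ ≫ ·) hψ).trans ?_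
        exact (Category.assoc _ _ _).symm.trans ((congrArg (· ≫ φ) ((L.map_comp _ _).symm.trans
          ((congrArg L.map w).trans (L.map_zero _ _)))).trans (zero_comp.trans (L.map_zero _ _).symm))))
    subst hg
    change T.obj₂ ⟶ N at g
    obtain ⟨z, hz⟩ := (L.mapTriangle.obj T).yoneda_exact₂ hL (φ - L.map g) (by
      show L.map T.mor₁ ≫ (φ - L.map g) = 0
      rw [Preadditive.comp_sub, ← hψ, sub_eq_zero]
      exact L.map_comp _ _)
    obtain ⟨z', rfl⟩ := h₃.zero.2 z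
    refine ⟨g + T.mor₂ ≫ z', ?_⟩
    rw [L.map_add, L.map_comp]
    exact (add_comm _ _).trans (sub_eq_iff_eq_add.1 hz).symm

omit [L.Additive] in
lemma BijAll.obj₂_left {N : T₀} {T : Triangle T₀} (hT : T ∈ distTriang T₀) (h₁ : BijAll L T.obj₁ N)
    (h₃ : BijAll L T.obj₃ N) : BijAll L T.obj₂ N := fun n =>
  bij_obj₂_left hT (h₁.shift_right n) (h₃.shift_right n)

omit [L.Additive] in
/-- Triangles whose outer terms are in the image have middle term in the image. -/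
lemma exists_obj₂ {T : Triangle T₁} (hT : T ∈ distTriang T₁) {K₁ K₃ : T₀} (e₁ : L.obj K₁ ≅ T.obj₁)
    (e₃ : L.obj K₃ ≅ T.obj₃) (h : Function.Surjective (L.map : (K₃ ⟶ K₁⟦(1 : ℤ)⟧) → _)) :
    ∃ (S : Triangle T₀), S ∈ distTriang T₀ ∧ S.obj₁ = K₁ ∧ S.obj₃ = K₃ ∧ Nonempty (L.obj S.obj₂ ≅ T.obj₂) := by
  obtain ⟨φ, hφ⟩ := h (e₃.hom ≫ T.mor₃ ≫ e₁.inv⟦(1 : ℤ)⟧' ≫ (L.commShiftIso (1 : ℤ)).inv.app K₁)
  obtain ⟨K₂, a, b, hS⟩ := distinguished_cocone_triangle₂ φ
  refine ⟨Triangle.mk a b φ, hS, rfl, rfl, ⟨Triangle.π₂.mapIso (isoTriangleOfIso₁₃ _ _ (L.map_distinguished _ hS) hT e₁ e₃ ?_)⟩⟩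
  show (L.map φ ≫ (L.commShiftIso (1 : ℤ)).hom.app K₁) ≫ e₁.hom⟦(1 : ℤ)⟧' = e₃.hom ≫ T.mor₃
  rw [hφ]
  simp [← Functor.map_comp]

end Groth.Agent.SiteCmpC
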