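import Groth.Agent.SiteCmpC.Bounded
import Groth.Agent.SiteCmpC.CohIn
import Groth.Agent.SiteCmpC.Devissage
import Mathlib.Algebra.Homology.DerivedCategory.SingleTriangle

/-! Equivalences of derived categories with cohomology in weak Serre classes. -/

universe w w' v v' u u'

open CategoryTheory CategoryTheory.Limits CategoryTheory.Pretriangulated DerivedCategory

namespace Groth.Agent.SiteCmpC

open Groth.Agent.H9Misc

variable {A : Type u} [Category.{v} A] [Abelian A] [HasDerivedCategory.{w} A]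
  {B : Type u'} [Category.{v'} B] [Abelian B] [HasDerivedCategory.{w'} B]
  (F : A ⥤ B) [F.Additive] [PreservesFiniteLimits F] [PreservesFiniteColimits F]
  (P : ObjectProperty A) (Q : ObjectProperty B) [WSerre.IsWeakSerre Q]

lemma cohIn_map (h2a : ∀ M, P M → Q (F.obj M)) {X : DerivedCategory A} (hX : WSerre.cohIn P X) :
    WSerre.cohIn Q (F.mapDerivedCategory.obj X) := fun i =>
  Q.prop_of_iso (homologyMapIso F X i).symm (h2a _ (hX i))

lemma cohInPlus_map (h2a : ∀ M, P M → Q (F.obj M)) {X : DerivedCategory A} (hX : WSerre.cohInPlus P X) :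
    WSerre.cohInPlus Q (F.mapDerivedCategory.obj X) := by
  obtain ⟨hX, n, hn⟩ := hX
  exact ⟨cohIn_map F P Q h2a hX, n, (have : X.IsGE n := hn; isGE_map F X n)⟩

lemma cohInBdd_map (h2a : ∀ M, P M → Q (F.obj M)) {X : DerivedCategory A} (hX : WSerre.cohInBdd P X) :
    WSerre.cohInBdd Q (F.mapDerivedCategory.obj X) := by
  obtain ⟨hX, ⟨n, hn⟩, m, hm⟩ := hX
  exact ⟨cohIn_map F P Q h2a hX, ⟨n, (have : X.IsGE n := hn; isGE_map F X n)⟩,
    m, (have : X.IsLE m := hm; isLE_map F X m)⟩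

variable {F} [WSerre.IsWeakSerre P] {R : DerivedCategory B ⥤ DerivedCategory A} (adj : F.mapDerivedCategory ⊣ R)

omit [WSerre.IsWeakSerre Q] in
include adj in
lemma isIso_unit_of_cohInPlus (h3 : ∀ M, P M → IsIso (adj.unit.app ((singleFunctor A 0).obj M)))
    {X : DerivedCategory A} (hX : WSerre.cohInPlus P X) : IsIso (adj.unit.app X) := by
  obtain ⟨hX, n, hn⟩ := hX
  have : X.IsGE n := hn
  exact isIso_unit_of_isGE adj X n fun i => h3 _ (hX i)

omit [WSerre.IsWeakSerre Q] in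
include adj in
lemma right_single (h3 : ∀ M, P M → IsIso (adj.unit.app ((singleFunctor A 0).obj M)))
    (h2c : ∀ N, Q N → ∃ M, P M ∧ Nonempty (F.obj M ≅ N)) (n : ℤ) {N : B} (hN : Q N) :
    IsIso (adj.counit.app ((singleFunctor B n).obj N)) ∧ WSerre.cohIn P (R.obj ((singleFunctor B n).obj N)) := by
  obtain ⟨M, hM, ⟨e⟩⟩ := h2c N hN
  let Z := (singleFunctor A n).obj M
  have hZ : WSerre.cohInPlus P Z :=
    ⟨cohIn_single P n hM, n, inferInstanceAs (DerivedCategory.IsGE ((singleFunctor A n).obj M) n)⟩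
  have hu := isIso_unit_of_cohInPlus P adj h3 hZ
  let e' : F.mapDerivedCategory.obj Z ≅ (singleFunctor B n).obj N :=
    (F.mapDerivedCategorySingleFunctor n).app M ≪≫ (singleFunctor B n).mapIso e
  have hL : IsIso (adj.counit.app (F.mapDerivedCategory.obj Z)) := by
    have h := adj.left_triangle_components Z
    exact IsIso.of_isIso_fac_left h
  exact ⟨(NatTrans.isIso_app_iff_of_iso adj.counit e').1 hL,
    cohIn_of_iso P (@asIso _ _ _ _ (adj.unit.app Z) hu ≪≫ R.mapIso e') hZ.1⟩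

omit [WSerre.IsWeakSerre Q] in
include adj in
theorem right_of_cohInPlus [WSerre.IsWeakSerre Q] (h3 : ∀ M, P M → IsIso (adj.unit.app ((singleFunctor A 0).obj M)))
    (h2c : ∀ N, Q N → ∃ M, P M ∧ Nonempty (F.obj M ≅ N))
    {X : DerivedCategory B} (hX : WSerre.cohInPlus Q X) :
    WSerre.cohInPlus P (R.obj X) ∧ IsIso (adj.counit.app X) := by
  obtain ⟨hX, n, hn⟩ := hX
  have hge : X.IsGE n := hn
  refine ⟨⟨?_, n, isGE_right adj X n⟩, isIso_counit_of_isGE adj X n fun i => (right_single P Q adj h3 h2c 0 (hX i)).1⟩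
  let _ := adj.rightAdjointCommShift ℤ
  have := adj.commShift_of_leftAdjoint ℤ
  have : R.IsTriangulated := adj.isTriangulated_rightAdjoint
  intro i
  let T := (TStructure.t.triangleLTGE (i + 2)).obj X
  have hT : T ∈ distTriang _ := TStructure.t.triangleLTGE_distinguished (i + 2) X
  have := KFlatLib.isGE_truncLT X n (i + 2)
  have : TStructure.t.IsLE ((TStructure.t.truncLT (i + 2)).obj X) (i + 2 - 1) := inferInstance
  have : DerivedCategory.IsLE ((TStructure.t.truncLT (i + 2)).obj X) (i + 1) :=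
    TStructure.t.isLE_of_le ((TStructure.t.truncLT (i + 2)).obj X) (i + 2 - 1) (i + 1) (by omega)
  have h1 : WSerre.cohIn P (R.obj T.obj₁) :=
    bounded_induction Q (fun Y => WSerre.cohIn P (R.obj Y)) (fun e h => cohIn_of_iso P (R.mapIso e) h)
      (fun k N hN => (right_single P Q adj h3 h2c k hN).2)
      (fun S hS _ _ a b => cohIn_obj₂ P (R.map_distinguished _ hS) a b)
      ((TStructure.t.truncLT (i + 2)).obj X) n (i + 1) (cohIn_truncLT Q hX _)
  have : DerivedCategory.IsGE T.obj₃ (i + 2) :=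
    inferInstanceAs (TStructure.t.IsGE ((TStructure.t.truncGE (i + 2)).obj X) (i + 2))
  have : DerivedCategory.IsGE (R.obj T.obj₃) (i + 2) := isGE_right adj _ _
  have hT' := R.map_distinguished _ hT
  have : Mono ((homologyFunctor A i).map (R.mapTriangle.obj T).mor₁) :=
    (HomologySequence.mono_homologyMap_mor₁_iff _ hT' (i - 1) i (by omega)).2
      ((isZero_of_isGE (R.obj T.obj₃) (i + 2) (i - 1) (by omega)).eq_of_src _ _)
  have : Epi ((homologyFunctor A i).map (R.mapTriangle.obj T).mor₁) :=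
    (HomologySequence.epi_homologyMap_mor₁_iff _ hT' i).2
      ((isZero_of_isGE (R.obj T.obj₃) (i + 2) i (by omega)).eq_of_tgt _ _)
  have := isIso_of_mono_of_epi ((homologyFunctor A i).map (R.mapTriangle.obj T).mor₁)
  exact P.prop_of_iso (@asIso _ _ _ _ ((homologyFunctor A i).map (R.mapTriangle.obj T).mor₁) this) (h1 i)

section Bdd

omit [WSerre.IsWeakSerre Q] in
variable (F) in
theorem mapBij_of_cohInBdd
    (h2 : ∀ M M' : A, P M → P M' → ∀ n : ℤ, Function.Bijective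
      (fun φ : ((singleFunctor A 0).obj M ⟶ ((singleFunctor A 0).obj M')⟦n⟧) => F.mapDerivedCategory.map φ))
    {K N : DerivedCategory A} (hK : WSerre.cohInBdd P K) (hN : WSerre.cohInBdd P N) :
    BijAll F.mapDerivedCategory K N := by
  obtain ⟨hK, ⟨a, ha⟩, b, hb⟩ := hK
  obtain ⟨hN, ⟨c, hc⟩, d, hd⟩ := hN
  have : K.IsGE a := ha
  have : K.IsLE b := hb
  have : N.IsGE c := hc
  have : N.IsLE d := hd
  refine bounded_induction P (fun K => BijAll F.mapDerivedCategory K N)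
    (fun e h => h.of_iso e (Iso.refl _)) (fun k M hM => ?_) (fun T hT _ _ h h' => h.obj₂_left hT h') K a b hK
  refine bounded_induction P (fun N => BijAll F.mapDerivedCategory ((singleFunctor A k).obj M) N)
    (fun e h => h.of_iso (Iso.refl _) e) (fun l M' hM' => ?_) (fun T hT _ _ h h' => h.obj₂_right hT h') N c d hN
  exact (((show BijAll F.mapDerivedCategory _ _ from h2 M M' hM hM').shift_left (-k)).shift_right (-l)).of_iso
    (((singleFunctors A).shiftIso (-k) k 0 (by omega)).app M)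
    (((singleFunctors A).shiftIso (-l) l 0 (by omega)).app M')

variable (F) in
theorem exists_preimage_of_cohInBdd
    (h2 : ∀ M M' : A, P M → P M' → ∀ n : ℤ, Function.Bijective
      (fun φ : ((singleFunctor A 0).obj M ⟶ ((singleFunctor A 0).obj M')⟦n⟧) => F.mapDerivedCategory.map φ))
    (h2c : ∀ N, Q N → ∃ M, P M ∧ Nonempty (F.obj M ≅ N))
    {X : DerivedCategory B} (hX : WSerre.cohInBdd Q X) :
    ∃ K, WSerre.cohInBdd P K ∧ Nonempty (F.mapDerivedCategory.obj K ≅ X) := by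
  obtain ⟨hX, ⟨a, ha⟩, b, hb⟩ := hX
  have : X.IsGE a := ha
  have : X.IsLE b := hb
  refine bounded_induction Q (fun X => ∃ K, WSerre.cohInBdd P K ∧ Nonempty (F.mapDerivedCategory.obj K ≅ X))
    ?_ ?_ ?_ X a b hX
  · rintro Y Y' e ⟨K, hK, ⟨e'⟩⟩
    exact ⟨K, hK, ⟨e' ≪≫ e⟩⟩
  · intro n N hN
    obtain ⟨M, hM, ⟨e⟩⟩ := h2c N hN
    exact ⟨(singleFunctor A n).obj M, ⟨cohIn_single P n hM,
      ⟨n, inferInstanceAs (DerivedCategory.IsGE ((singleFunctor A n).obj M) n)⟩,
      n, inferInstanceAs (DerivedCategory.IsLE ((singleFunctor A n).obj M) n)⟩,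
      ⟨(F.mapDerivedCategorySingleFunctor n).app M ≪≫ (singleFunctor B n).mapIso e⟩⟩
  · rintro T hT - - ⟨K₁, h₁, ⟨e₁⟩⟩ ⟨K₃, h₃, ⟨e₃⟩⟩
    obtain ⟨S, hS, r₁, r₃, ⟨e₂⟩⟩ := exists_obj₂ (L := F.mapDerivedCategory) hT e₁ e₃
      ((mapBij_of_cohInBdd F P h2 h₃ h₁) 1).2
    subst r₁ r₃
    obtain ⟨c₁, ⟨n₁, g₁⟩, m₁, l₁⟩ := h₁
    obtain ⟨c₃, ⟨n₃, g₃⟩, m₃, l₃⟩ := h₃
    refine ⟨S.obj₂, ⟨cohIn_obj₂ P hS c₁ c₃, ⟨min n₁ n₃, ?_⟩, max m₁ m₃, ?_⟩, ⟨e₂⟩⟩
    · exact TStructure.t.isGE₂ S hS _ (TStructure.t.isGE_of_ge _ (min n₁ n₃) n₁ (by omega))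
        (TStructure.t.isGE_of_ge _ (min n₁ n₃) n₃ (by omega))
    · exact TStructure.t.isLE₂ S hS _ (TStructure.t.isLE_of_le _ m₁ (max m₁ m₃) (by omega))
        (TStructure.t.isLE_of_le _ m₃ (max m₁ m₃) (by omega))

end Bdd

end Groth.Agent.SiteCmpC
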