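import Groth.Agent.SiteCmpC.TorsionSh
import Mathlib.Algebra.Homology.HomologySequence
import Mathlib.Algebra.Homology.HomologicalComplexAbelian

/-! Torsion subcomplexes of injective complexes with torsion cohomology. -/

set_option autoImplicit false
set_option synthInstance.maxSize 4000
set_option synthInstance.maxHeartbeats 400000

universe u

open CategoryTheory CategoryTheory.Limits Opposite DerivedCategory

attribute [local instance] HasDerivedCategory.standard

namespace Groth.Agent.SiteCmpC

open Groth.Agent.H9Misc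

variable {C : Type u} [SmallCategory C] {J : GrothendieckTopology C} [(SiteCmp.torsionSh J).IsSerreClass]
  [(torsFunctor J).Additive]

variable (J) in
/-- The counit on complexes. -/
def torsCounit (I : CochainComplex (Sheaf J AddCommGrpCat.{u}) ℤ) :
    ((SiteCmp.torsionSh J).ι.mapHomologicalComplex (ComplexShape.up ℤ)).obj
      (((torsFunctor J).mapHomologicalComplex (ComplexShape.up ℤ)).obj I) ⟶ I where
  f i := (torsAdj J).counit.app (I.X i)
  comm' i j _ := ((torsAdj J).counit.naturality (I.d i j)).symm

lemma torsAdj_counit_app (F : Sheaf J AddCommGrpCat.{u}) : (torsAdj J).counit.app F = torsIncl F := by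
  simp [torsAdj, torsFunctor]

theorem isIso_counit_of_torsion (I : CochainComplex (Sheaf J AddCommGrpCat.{u}) ℤ) (hinj : ∀ n, Injective (I.X n))
    (hH : ∀ n, SiteCmp.torsionSh J ((DerivedCategory.homologyFunctor _ n).obj (Q.obj I))) :
    IsIso (Qh.map ((SerreDerived.adjHtpy (ComplexShape.up ℤ) (torsAdj J)).counit.app
      ((HomotopyCategory.quotient _ (ComplexShape.up ℤ)).obj I))) := by
  let P := SiteCmp.torsionSh J
  let c := torsCounit J I
  have hm : Mono c := by
    have : ∀ i, Mono (c.f i) := fun i => by
      show Mono ((torsAdj J).counit.app (I.X i))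
      rw [torsAdj_counit_app]; exact mono_torsIncl _
    exact HomologicalComplex.mono_of_mono_f c this
  let S := ShortComplex.mk c (cokernel.π c) (cokernel.condition c)
  have hS : S.ShortExact := HomologicalComplex.shortExact_of_degreewise_shortExact S fun j => by
    let Sj := S.map (HomologicalComplex.eval (Sheaf J AddCommGrpCat.{u}) (ComplexShape.up ℤ) j)
    have hmj : Mono Sj.f := by
      show Mono ((torsAdj J).counit.app (I.X j))
      rw [torsAdj_counit_app]; exact mono_torsIncl _
    refine ShortComplex.ShortExact.mk' (ShortComplex.exact_of_g_is_cokernel Sj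
      (IsColimit.ofIsoColimit (CokernelCofork.mapIsColimit _ (cokernelIsCokernel c)
        (HomologicalComplex.eval (Sheaf J AddCommGrpCat.{u}) (ComplexShape.up ℤ) j)) (Cofork.ext (Iso.refl _) (Category.comp_id _)))) hmj ?_
    exact inferInstanceAs (Epi ((HomologicalComplex.eval (Sheaf J AddCommGrpCat.{u}) (ComplexShape.up ℤ) j).map (cokernel.π c)))
  have hHI : ∀ i, P (I.homology i) := fun i => P.prop_of_iso ((homologyFunctorFactors _ i).app I) (hH i)
  have hH1 : ∀ i, P (S.X₁.homology i) := fun i =>
    P.prop_of_iso (((((torsFunctor J).mapHomologicalComplex (ComplexShape.up ℤ)).obj I).sc i).mapHomologyIso P.ι).symm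
      (((((torsFunctor J).mapHomologicalComplex (ComplexShape.up ℤ)).obj I).homology i)).2
  have hz : ∀ i, IsZero (S.X₃.homology i) := fun i => by
    refine isZero_of_torsion (P.prop_X₂_of_exact (hS.homology_exact₃ i (i + 1) rfl) (hHI i) (hH1 (i + 1)))
      fun n hn => ?_
    have hf : IsIso (n • 𝟙 S.X₃ : S.X₃ ⟶ S.X₃) := by
      have : ∀ j, IsIso ((n • 𝟙 S.X₃ : S.X₃ ⟶ S.X₃).f j) := fun j => by
        have := hinj j
        have h := isIso_nsmul_cokernel (I.X j) hn
        let e : (cokernel c).X j ≅ cokernel (torsIncl (I.X j)) :=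
          PreservesCokernel.iso (HomologicalComplex.eval _ (ComplexShape.up ℤ) j) c ≪≫
            cokernelIsoOfEq (torsAdj_counit_app (I.X j))
        have he : (n • 𝟙 S.X₃ : S.X₃ ⟶ S.X₃).f j = e.hom ≫ (n • 𝟙 _) ≫ e.inv := by
          have : (n • 𝟙 S.X₃ : S.X₃ ⟶ S.X₃).f j = n • 𝟙 (S.X₃.X j) := by simp
          rw [this, Preadditive.nsmul_comp, Category.id_comp, Preadditive.comp_nsmul, e.hom_inv_id]
        rw [he]
        infer_instance
      exact HomologicalComplex.Hom.isIso_of_components _
    have e : (n • 𝟙 (S.X₃.homology i) : _ ⟶ _) = HomologicalComplex.homologyMap (n • 𝟙 S.X₃ : S.X₃ ⟶ S.X₃) i := by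
      refine Eq.trans ?_ ((HomologicalComplex.homologyFunctor _ (ComplexShape.up ℤ) i).map_nsmul).symm
      rw [CategoryTheory.Functor.map_id]
      rfl
    rw [e]
    exact (inferInstance : Mono ((HomologicalComplex.homologyFunctor _ (ComplexShape.up ℤ) i).map (n • 𝟙 S.X₃ : S.X₃ ⟶ S.X₃)))
  have hq : QuasiIso c := ⟨fun i => by
    rw [quasiIsoAt_iff_isIso_homologyMap]
    have h1 : Mono (HomologicalComplex.homologyMap c i) :=
      (hS.homology_exact₁ (i - 1) i (by simp)).mono_g ((hz (i - 1)).eq_of_src _ _)
    have h2 : Epi (HomologicalComplex.homologyMap c i) :=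
      (hS.homology_exact₂ i).epi_f ((hz i).eq_of_tgt _ _)
    exact isIso_of_mono_of_epi _⟩
  exact (DerivedCategory.isIso_Qh_map_iff _).2
    ((HomotopyCategory.quotient_map_mem_quasiIso_iff c).2 ((HomologicalComplex.mem_quasiIso_iff c).2 hq))

end Groth.Agent.SiteCmpC
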