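import Groth.Agent.SiteCmpC.ModPushApp

/-! Derived direct image between subcategories of locally bounded cohomological dimension. -/

set_option autoImplicit false

universe w u

open CategoryTheory CategoryTheory.Limits CategoryTheory.Pretriangulated Opposite DerivedCategory

attribute [local instance] HasDerivedCategory.standard

namespace Groth.Agent.SiteCmpC

open Groth.Agent.H9Misc

section Gen

variable {A : Type (u + 1)} [Category.{u} A] [Abelian A] [HasDerivedCategory.{w} A] {P : A} {d : ℕ}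

/-- Vanishing of `Hom(P, E⟦m⟧)` above `d` plus the amplitude of `E`. -/
lemma hom_eq_zero_of_bounded (k : ℕ) :
    ∀ (E : DerivedCategory A) (a b : ℤ), b ≤ a + k → E.IsGE a → E.IsLE b →
      (∀ q, VanishAbove P ((homologyFunctor A q).obj E) d) →
      ∀ m : ℤ, (d : ℤ) + b < m → ∀ φ : (singleFunctor A 0).obj P ⟶ E⟦m⟧, φ = 0 := by
  let V : ObjectProperty A := fun F => VanishAbove P F d
  have : V.IsClosedUnderIsomorphisms := ⟨fun e h => h.of_iso e⟩
  have hz : ∀ F : A, IsZero F → V F := fun F hF j _ φ =>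
    ((shiftFunctor _ (j : ℤ)).map_isZero ((singleFunctor A 0).map_isZero hF)).eq_of_tgt φ 0
  induction k with
  | zero =>
    intro E a b hk hGE hLE hV m hm φ
    have : E.IsLE a := TStructure.t.isLE_of_le E b a (by omega)
    rcases lt_or_ge b a with h | h
    · have hE : IsZero E := TStructure.t.isZero E b a h
      exact ((shiftFunctor _ m).map_isZero hE).eq_of_tgt φ 0
    · exact hom_eq_zero_of_heart E a m (hV a) (Or.inr (by omega)) φ
  | succ k ih =>
    intro E a b hk hGE hLE hV m hm φ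
    rcases le_or_gt b (a + k) with h | h
    · exact ih E a b h hGE hLE hV m hm φ
    let T := (TStructure.t.triangleLTGE (a + 1)).obj E
    have hT : T ∈ distTriang _ := TStructure.t.triangleLTGE_distinguished (a + 1) E
    have h1 : ∀ q, V ((homologyFunctor A q).obj T.obj₁) := fun q => WayOut.P_truncLT V (hP := hz) hV (a + 1) q
    have h3 : ∀ q, V ((homologyFunctor A q).obj T.obj₃) := fun q => WayOut.P_truncGE V (hP := hz) hV (a + 1) q
    haveI : DerivedCategory.IsGE T.obj₁ a := KFlatLib.isGE_truncLT E a (a + 1)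
    haveI : DerivedCategory.IsLE T.obj₁ a := TStructure.t.isLE_of_le
      ((TStructure.t.truncLT (a + 1)).obj E) (a + 1 - 1) a (by omega)
    haveI hGE3 : DerivedCategory.IsGE T.obj₃ (a + 1) :=
      inferInstanceAs (TStructure.t.IsGE ((TStructure.t.truncGE (a + 1)).obj E) (a + 1))
    have hLE3 : DerivedCategory.IsLE T.obj₃ b := (isLE_iff _ _).2 fun i hi => by
      rcases lt_or_ge i (a + 1) with h | h
      · exact isZero_of_isGE _ (a + 1) i h
      · have := WayOut.isIso_H_truncGE E (a + 1) i h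
        exact (isZero_of_isLE E b i hi).of_iso
          (asIso ((homologyFunctor A i).map ((TStructure.t.truncGEπ (a + 1)).app E))).symm
    obtain ⟨y, hy⟩ := DLim.exact₂_mk (f := T.mor₁) (g := T.mor₂) (h := T.mor₃) hT m φ
      (ih T.obj₃ (a + 1) b (by omega) hGE3 hLE3 h3 m hm _)
    rw [← hy, hom_eq_zero_of_heart T.obj₁ a m (h1 a) (Or.inr (by omega)) y]
    exact zero_comp

end Gen

variable {C D : Type u} [SmallCategory C] [SmallCategory D]
  {J : GrothendieckTopology C} {K : GrothendieckTopology D}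
  {O_C : Sheaf J CommRingCat.{u}} {O_D : Sheaf K CommRingCat.{u}} (f : ModSite.RMor O_C O_D)
  [HasInjectiveResolutions (ModSite.Mod O_C)] [SiteCmp.HasRpushD f]
  {A : ObjectProperty (ModSite.Mod O_C)} [WSerre.IsWeakSerre A]
  {A' : ObjectProperty (ModSite.Mod O_D)} [WSerre.IsWeakSerre A']

lemma isLE_RpushD_single {N : ℕ} {F : ModSite.Mod O_C}
    (h4 : ∀ p : ℕ, N < p → IsZero ((f.Rpush p).obj F)) :
    DerivedCategory.IsLE ((SiteCmp.RpushD f).obj ((singleFunctor _ 0).obj F)) N :=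
  (isLE_iff _ _).2 fun i hi => by
    obtain ⟨e⟩ := nonempty_homology_RpushD_single f F 0 i i.toNat (by omega)
    exact (h4 i.toNat (by omega)).of_iso e

lemma vanishAbove_push {N d : ℕ} {F : ModSite.Mod O_C} (h3 : ∀ p : ℕ, A' ((f.Rpush p).obj F))
    (h4 : ∀ p : ℕ, N < p → IsZero ((f.Rpush p).obj F)) (Y : D)
    (hY : ∀ F', A' F' → VanishAbove (freeAt O_D Y) F' d) :
    VanishAbove (freeAt O_C (f.fn.obj Y)) F (d + N) := by
  intro k hk φ
  obtain ⟨_, _⟩ := exists_isTriangulated_RpushD f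
  obtain ⟨Φ, hΦ⟩ := exists_homEquiv_push f Y
  let S := (singleFunctor (ModSite.Mod O_C) 0).obj F
  let R := (SiteCmp.RpushD f).obj S
  have hGE : DerivedCategory.IsGE R 0 := isGE_RpushD f S 0
  have hA' : ∀ q, A' ((homologyFunctor _ q).obj R) := fun q => by
    rcases lt_or_ge q 0 with h | h
    · exact A'.prop_of_isZero (isZero_of_isGE _ 0 q h)
    · obtain ⟨e⟩ := nonempty_homology_RpushD_single f F 0 q q.toNat (by omega)
      exact A'.prop_of_iso e.symm (h3 _)
  let c := ((SiteCmp.RpushD f).commShiftIso (k : ℤ)).app S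
  have h := hom_eq_zero_of_bounded N R 0 N (by omega) hGE (isLE_RpushD_single f h4)
    (fun q => hY _ (hA' q)) k (by omega) (Φ _ φ ≫ c.hom)
  apply (Φ _).injective
  refine ((cancel_mono c.hom).1 (h.trans zero_comp.symm)).trans ?_
  have h0 := hΦ _ _ (0 : S⟦(k : ℤ)⟧ ⟶ S⟦(k : ℤ)⟧) φ
  rw [comp_zero, Functor.map_zero, comp_zero] at h0
  exact h0.symm

variable {B : Set C} {B' : Set D}

lemma refines_vanishAbove_push {N : ℤ} {X : DerivedCategory (ModSite.Mod O_C)}
    (hA' : ∀ V ∈ B', ∃ d : ℕ, ∀ T ∈ K V, ∃ (ι : Type u) (Y : ι → D) (g : ∀ i, Y i ⟶ V),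
      (∀ i, T.arrows (g i)) ∧ Sieve.ofArrows Y g ∈ K V ∧
      ∀ (i : ι) (F : ModSite.Mod O_D), A' F → ∀ k : ℕ, d < k → Subsingleton (ModSite.HU O_D F k (Y i)))
    (h3 : ∀ F : ModSite.Mod O_C, A F → ∀ p : ℕ, A' ((f.Rpush p).obj F))
    (h4 : ∀ F : ModSite.Mod O_C, A F → ∀ p : ℕ, N < (p : ℤ) → IsZero ((f.Rpush p).obj F))
    (hX : WSerre.cohIn A X) : ∀ V ∈ B', ∃ d : ℕ, Refines K (fun Y => ∀ q : ℤ,
      VanishAbove (freeAt O_C (f.fn.obj Y)) ((homologyFunctor _ q).obj X) d) V := fun V hV => by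
  obtain ⟨d, hd⟩ := hA' V hV
  refine ⟨d + N.toNat, fun T hT => ?_⟩
  obtain ⟨ι, Y, g, h1, h2, h5⟩ := hd T hT
  exact ⟨ι, Y, g, h1, h2, fun i q => vanishAbove_push f (fun p => h3 _ (hX q) p)
    (fun p hp => h4 _ (hX q) p (by omega)) (Y i) fun F' hF' => vanishAbove_of_subsingleton _ _ d (h5 i F' hF')⟩

theorem cohIn_RpushD_of_isIso {N : ℤ}
    (h3 : ∀ F : ModSite.Mod O_C, A F → ∀ p : ℕ, A' ((f.Rpush p).obj F))
    {X : DerivedCategory (ModSite.Mod O_C)} (hX : WSerre.cohIn A X)
    (h : ∀ (n : ℕ) (j : ℤ), N - n ≤ j →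
      IsIso ((homologyFunctor _ j).map ((SiteCmp.RpushD f).map (CohCx.toTruncTower X n)))) :
    WSerre.cohIn A' ((SiteCmp.RpushD f).obj X) := fun j => by
  have := h (N - j).toNat j (by omega)
  let m : ℤ := -((N - j).toNat : ℤ)
  have : DerivedCategory.IsGE ((TStructure.t.truncGE m).obj X) m :=
    inferInstanceAs (TStructure.t.IsGE ((TStructure.t.truncGE m).obj X) m)
  exact A'.prop_of_iso
    (asIso ((homologyFunctor _ j).map ((SiteCmp.RpushD f).map (CohCx.toTruncTower X (N - j).toNat)))).symm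
    (cohIn_RpushD_of_isGE f A' h3 (cohIn_truncGE A hX m) m j)

end Groth.Agent.SiteCmpC
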