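import Groth.Agent.SiteCmpC.ModPush

/-! Hypotheses of bounded cohomological dimension in the form used by `LocBdd`. -/

set_option autoImplicit false

universe u

open CategoryTheory CategoryTheory.Limits Opposite

attribute [local instance] HasDerivedCategory.standard

namespace Groth.Agent.SiteCmpC

variable {C D : Type u} [SmallCategory C] [SmallCategory D]
  {J : GrothendieckTopology C} {K : GrothendieckTopology D}
  {O_C : Sheaf J CommRingCat.{u}} {A : ObjectProperty (ModSite.Mod O_C)}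
  {X : DerivedCategory (ModSite.Mod O_C)}

lemma locBdd_of_subsingleton {B : Set C}
    (hB : ∀ U : C, ∃ (ι : Type u) (Y : ι → C) (g : ∀ i, Y i ⟶ U), Sieve.ofArrows Y g ∈ J U ∧ ∀ i, Y i ∈ B)
    (hA : ∀ V ∈ B, ∃ d : ℕ, ∀ T ∈ J V, ∃ (ι : Type u) (Y : ι → C) (g : ∀ i, Y i ⟶ V),
      (∀ i, T.arrows (g i)) ∧ Sieve.ofArrows Y g ∈ J V ∧
      ∀ (i : ι) (F : ModSite.Mod O_C), A F → ∀ k : ℕ, d < k → Subsingleton (ModSite.HU O_C F k (Y i)))
    (hX : WSerre.cohIn A X) : LocBdd X B :=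
  ⟨hB, fun V hV => by
    obtain ⟨d, hd⟩ := hA V hV
    refine ⟨d, fun T hT => ?_⟩
    obtain ⟨ι, Y, g, h1, h2, h3⟩ := hd T hT
    exact ⟨ι, Y, g, h1, h2, fun i q => vanishAbove_of_subsingleton (Y i) _ d (h3 i _ (hX q))⟩⟩

lemma refines_vanishAbove_of_subsingleton (u : D → C) {B' : Set D}
    (hA' : ∀ V ∈ B', ∃ d : ℕ, ∀ T ∈ K V, ∃ (ι : Type u) (Y : ι → D) (g : ∀ i, Y i ⟶ V),
      (∀ i, T.arrows (g i)) ∧ Sieve.ofArrows Y g ∈ K V ∧
      ∀ (i : ι) (F : ModSite.Mod O_C), A F → ∀ k : ℕ, d < k → Subsingleton (ModSite.HU O_C F k (u (Y i))))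
    (hX : WSerre.cohIn A X) : ∀ V ∈ B', ∃ d : ℕ, Refines K (fun Y => ∀ q : ℤ,
      VanishAbove (freeAt O_C (u Y)) ((DerivedCategory.homologyFunctor _ q).obj X) d) V := fun V hV => by
  obtain ⟨d, hd⟩ := hA' V hV
  refine ⟨d, fun T hT => ?_⟩
  obtain ⟨ι, Y, g, h1, h2, h3⟩ := hd T hT
  exact ⟨ι, Y, g, h1, h2, fun i q => vanishAbove_of_subsingleton _ _ d (h3 i _ (hX q))⟩

end Groth.Agent.SiteCmpC
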