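import Groth.Agent.SiteCmpC.ModPush2
import Groth.Agent.SiteCmpC.Equiv

/-! Equivalences of unbounded derived categories with cohomology in weak Serre classes. -/

set_option autoImplicit false

universe w w' u

open CategoryTheory CategoryTheory.Limits CategoryTheory.Pretriangulated Opposite DerivedCategory

namespace Groth.Agent.SiteCmpC

open Groth.Agent.H9Misc

section Abstract

variable {A : Type (u + 1)} [Category.{u} A] [Abelian A] [HasDerivedCategory.{w} A]
  {B : Type (u + 1)} [Category.{u} B] [Abelian B] [HasDerivedCategory.{w'} B]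

lemma isIso_homology_comp_descTruncGE (F : A ⥤ B) [F.Additive] [PreservesFiniteLimits F] [PreservesFiniteColimits F]
    (Y : DerivedCategory A) (n : ℕ) :
    IsIso (@Triangulated.TStructure.descTruncGE _ _ _ _ _ _ _ TStructure.t _ _
      (F.mapDerivedCategory.map (CohCx.toTruncTower Y n)) (-(n : ℤ))
      (have : DerivedCategory.IsGE ((TStructure.t.truncGE (-(n : ℤ))).obj Y) (-(n : ℤ)) :=
        inferInstanceAs (TStructure.t.IsGE ((TStructure.t.truncGE (-(n : ℤ))).obj Y) (-(n : ℤ)))
       isGE_map F ((TStructure.t.truncGE (-(n : ℤ))).obj Y) (-(n : ℤ)))) := by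
  have : DerivedCategory.IsGE ((TStructure.t.truncGE (-(n : ℤ))).obj Y) (-(n : ℤ)) :=
    inferInstanceAs (TStructure.t.IsGE ((TStructure.t.truncGE (-(n : ℤ))).obj Y) (-(n : ℤ)))
  let Y' := F.mapDerivedCategory.obj (CohCx.truncTower Y n)
  have hge : DerivedCategory.IsGE Y' (-(n : ℤ)) := isGE_map F _ _
  let φ := TStructure.t.descTruncGE (F.mapDerivedCategory.map (CohCx.toTruncTower Y n)) (-(n : ℤ))
  show IsIso φ
  rw [DerivedCategory.isIso_iff]
  intro i
  rcases lt_or_ge i (-(n : ℤ)) with h | h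
  · have : DerivedCategory.IsGE ((TStructure.t.truncGE (-(n : ℤ))).obj (F.mapDerivedCategory.obj Y)) (-(n : ℤ)) :=
      inferInstanceAs (TStructure.t.IsGE ((TStructure.t.truncGE (-(n : ℤ))).obj (F.mapDerivedCategory.obj Y)) (-(n : ℤ)))
    exact ⟨0, (isZero_of_isGE _ (-(n : ℤ)) i h).eq_of_src _ _, (isZero_of_isGE Y' (-(n : ℤ)) i h).eq_of_src _ _⟩
  · have hπ := TStructure.t.π_descTruncGE (F.mapDerivedCategory.map (CohCx.toTruncTower Y n)) (-(n : ℤ))
    have e := congrArg (homologyFunctor B i).map hπ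
    rw [Functor.map_comp] at e
    have := WayOut.isIso_H_truncGE (F.mapDerivedCategory.obj Y) (-(n : ℤ)) i h
    have := WayOut.isIso_H_truncGE Y (-(n : ℤ)) i h
    have : IsIso ((homologyFunctor B i).map (F.mapDerivedCategory.map (CohCx.toTruncTower Y n))) :=
      (NatIso.isIso_map_iff (KFlatLib.mapDCHomologyIso F i) _).2
        (inferInstanceAs (IsIso (F.map ((homologyFunctor A i).map (CohCx.toTruncTower Y n)))))
    exact IsIso.of_isIso_fac_left e

variable {F : A ⥤ B} [F.Additive] [PreservesFiniteLimits F] [PreservesFiniteColimits F]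
  (P : ObjectProperty A) (Q : ObjectProperty B) [WSerre.IsWeakSerre P] [WSerre.IsWeakSerre Q]
  {R : DerivedCategory B ⥤ DerivedCategory A} (adj : F.mapDerivedCategory ⊣ R)
  (h2a : ∀ M, P M → Q (F.obj M))
  (h3 : ∀ M, P M → IsIso (adj.unit.app ((singleFunctor A 0).obj M)))
  (htow : ∀ X : DerivedCategory B, WSerre.cohIn Q X → ∀ (n : ℕ) (j : ℤ), 0 - (n : ℤ) ≤ j →
    IsIso ((homologyFunctor A j).map (R.map (CohCx.toTruncTower X n))))

include adj h2a h3 htow

theorem isIso_unit_of_cohIn {Y : DerivedCategory A} (hY : WSerre.cohIn P Y) : IsIso (adj.unit.app Y) := by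
  rw [DerivedCategory.isIso_iff]
  intro j
  let n : ℕ := (-j).toNat
  let τ := CohCx.toTruncTower Y n
  let m : ℤ := -(n : ℤ)
  have : DerivedCategory.IsGE ((TStructure.t.truncGE m).obj Y) m :=
    inferInstanceAs (TStructure.t.IsGE ((TStructure.t.truncGE m).obj Y) m)
  have hY' : WSerre.cohInPlus P (CohCx.truncTower Y n) := ⟨cohIn_truncGE P hY _, m, this⟩
  have := isIso_unit_of_cohInPlus P adj h3 hY'
  have := WayOut.isIso_H_truncGE Y m j (by omega)
  have hge : DerivedCategory.IsGE (F.mapDerivedCategory.obj (CohCx.truncTower Y n)) m := isGE_map F _ _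
  have := isIso_homology_comp_descTruncGE F Y n
  have := htow _ (cohIn_map F P Q h2a hY) n j (by omega)
  have h1 : IsIso ((homologyFunctor A j).map (R.map (F.mapDerivedCategory.map τ))) := by
    have hπ := TStructure.t.π_descTruncGE (F.mapDerivedCategory.map τ) m
    rw [← hπ, Functor.map_comp, Functor.map_comp]
    exact IsIso.comp_isIso' this inferInstance
  have e := congrArg (homologyFunctor A j).map (adj.unit.naturality τ)
  rw [Functor.map_comp, Functor.map_comp] at e
  have h2 : IsIso ((homologyFunctor A j).map ((𝟭 (DerivedCategory A)).map τ)) := by assumption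
  have h3 : IsIso ((homologyFunctor A j).map ((F.mapDerivedCategory ⋙ R).map τ)) := h1
  exact @IsIso.of_isIso_fac_right _ _ _ _ _ _ _ _ h3 inferInstance e.symm

theorem right_of_cohIn (h2c : ∀ N, Q N → ∃ M, P M ∧ Nonempty (F.obj M ≅ N))
    {X : DerivedCategory B} (hX : WSerre.cohIn Q X) :
    WSerre.cohIn P (R.obj X) ∧ IsIso (adj.counit.app X) := by
  have key : ∀ j : ℤ, IsIso ((homologyFunctor A j).map (R.map (CohCx.toTruncTower X (-j).toNat))) ∧
      P ((homologyFunctor A j).obj (R.obj (CohCx.truncTower X (-j).toNat))) ∧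
      IsIso (adj.counit.app (CohCx.truncTower X (-j).toNat)) := fun j => by
    let n : ℕ := (-j).toNat
    let m : ℤ := -(n : ℤ)
    have : DerivedCategory.IsGE ((TStructure.t.truncGE m).obj X) m :=
      inferInstanceAs (TStructure.t.IsGE ((TStructure.t.truncGE m).obj X) m)
    obtain ⟨h4, h5⟩ := right_of_cohInPlus P Q adj h3 h2c (X := CohCx.truncTower X n) ⟨cohIn_truncGE Q hX _, m, this⟩
    exact ⟨htow X hX n j (by omega), h4.1 j, h5⟩
  refine ⟨fun j => ?_, ?_⟩
  · obtain ⟨h4, h5, -⟩ := key j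
    exact P.prop_of_iso (asIso ((homologyFunctor A j).map (R.map (CohCx.toTruncTower X (-j).toNat)))).symm h5
  · rw [DerivedCategory.isIso_iff]
    intro j
    obtain ⟨h4, -, h6⟩ := key j
    let τ := CohCx.toTruncTower X (-j).toNat
    have := WayOut.isIso_H_truncGE X (-(((-j).toNat : ℕ) : ℤ)) j (by omega)
    have h7 : IsIso ((homologyFunctor B j).map (F.mapDerivedCategory.map (R.map τ))) :=
      (NatIso.isIso_map_iff (KFlatLib.mapDCHomologyIso F j) _).2
        (inferInstanceAs (IsIso (F.map ((homologyFunctor A j).map (R.map τ)))))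
    have e := congrArg (homologyFunctor B j).map (adj.counit.naturality τ)
    rw [Functor.map_comp, Functor.map_comp] at e
    have h8 : IsIso ((homologyFunctor B j).map ((R ⋙ F.mapDerivedCategory).map τ)) := h7
    have h9 : IsIso ((homologyFunctor B j).map ((𝟭 (DerivedCategory B)).map τ)) := by assumption
    have h10 : IsIso ((homologyFunctor B j).map ((R ⋙ F.mapDerivedCategory).map τ) ≫
        (homologyFunctor B j).map (adj.counit.app (CohCx.truncTower X (-j).toNat))) :=
      IsIso.comp_isIso' h8 inferInstance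
    exact @IsIso.of_isIso_fac_right _ _ _ _ _ _ _ _ h9 h10 e.symm

end Abstract

section Sites

attribute [local instance] HasDerivedCategory.standard

variable {C D : Type u} [SmallCategory C] [SmallCategory D]
  {J : GrothendieckTopology C} {K : GrothendieckTopology D}
  {O_C : Sheaf J CommRingCat.{u}} {O_D : Sheaf K CommRingCat.{u}} (f : ModSite.RMor O_C O_D)
  [PreservesFiniteLimits f.pull] [SiteCmp.HasRpushD f]
  (adj : SiteCmp.pullD f ⊣ SiteCmp.RpushD f)
  (A : ObjectProperty (ModSite.Mod O_C)) [WSerre.IsWeakSerre A]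
  (A' : ObjectProperty (ModSite.Mod O_D)) [WSerre.IsWeakSerre A']

include adj in
/-- The higher direct images of objects in the essential image. -/
lemma Rpush_of_unit [HasInjectiveResolutions (ModSite.Mod O_C)]
    (h2c : ∀ F : ModSite.Mod O_C, A F → ∃ F' : ModSite.Mod O_D, A' F' ∧ Nonempty (f.pull.obj F' ≅ F))
    (h3 : ∀ F' : ModSite.Mod O_D, A' F' → IsIso (adj.unit.app (SiteCmp.inD O_D F')))
    {F : ModSite.Mod O_C} (hF : A F) (p : ℕ) :
    A' ((f.Rpush p).obj F) ∧ (0 < p → IsZero ((f.Rpush p).obj F)) := by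
  obtain ⟨F', hF', ⟨e⟩⟩ := h2c F hF
  obtain ⟨e1⟩ := nonempty_homology_RpushD_single f F 0 p p (by omega)
  let e2 : (singleFunctor (ModSite.Mod O_D) 0).obj F' ≅ (SiteCmp.RpushD f).obj ((singleFunctor _ 0).obj F) :=
    @asIso _ _ _ _ (adj.unit.app (SiteCmp.inD O_D F')) (h3 F' hF') ≪≫
      (SiteCmp.RpushD f).mapIso ((f.pull.mapDerivedCategorySingleFunctor 0).app F' ≪≫ (singleFunctor _ 0).mapIso e)
  let e3 := ((homologyFunctor _ (p : ℤ)).mapIso e2 ≪≫ e1)
  refine ⟨A'.prop_of_iso e3 (cohIn_single A' 0 hF' p), fun hp => ?_⟩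
  exact (isZero_homology_single 0 (p : ℤ) (by omega) F').of_iso e3.symm

include adj in
theorem equivalence_cohIn
    (h2a : ∀ F' : ModSite.Mod O_D, A' F' → A (f.pull.obj F'))
    (h2c : ∀ F : ModSite.Mod O_C, A F → ∃ F' : ModSite.Mod O_D, A' F' ∧ Nonempty (f.pull.obj F' ≅ F))
    (h3 : ∀ F' : ModSite.Mod O_D, A' F' → IsIso (adj.unit.app (SiteCmp.inD O_D F')))
    (B : Set C) (B' : Set D) (hB : ∀ X, WSerre.cohIn A X → LocBdd X B) (hB' : DLim.IsCoveredBy K B')
    (hd : ∀ X, WSerre.cohIn A X → ∀ V ∈ B', ∃ d : ℕ, Refines K (fun Y => ∀ q : ℤ,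
      VanishAbove (freeAt O_C (f.fn.obj Y)) ((homologyFunctor _ q).obj X) d) V) :
    (∀ Y : DerivedCategory (ModSite.Mod O_D), WSerre.cohIn A' Y →
      WSerre.cohIn A ((SiteCmp.pullD f).obj Y) ∧ IsIso (adj.unit.app Y)) ∧
    (∀ X : DerivedCategory (ModSite.Mod O_C), WSerre.cohIn A X →
      WSerre.cohIn A' ((SiteCmp.RpushD f).obj X) ∧ IsIso (adj.counit.app X)) := by
  have : HasInjectiveResolutions (ModSite.Mod O_C) := inferInstance
  have htow : ∀ X, WSerre.cohIn A X → ∀ (n : ℕ) (j : ℤ), 0 - (n : ℤ) ≤ j →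
      IsIso ((homologyFunctor _ j).map ((SiteCmp.RpushD f).map (CohCx.toTruncTower X n))) := fun X hX n j hj =>
    isIso_homology_RpushD_toTruncTower f
      (fun F hF p hp => (Rpush_of_unit f adj A A' h2c h3 hF p).2 (by omega)) hX (hB X hX) hB' (hd X hX) n j hj
  exact ⟨fun Y hY => ⟨cohIn_map f.pull A' A h2a hY, isIso_unit_of_cohIn A' A adj h2a h3 htow hY⟩,
    fun X hX => right_of_cohIn A' A adj h2a h3 htow h2c hX⟩

end Sites

end Groth.Agent.SiteCmpC
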