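import Groth.Prelude.Def_WeakSerre
import Mathlib.CategoryTheory.Adjunction.FullyFaithful
import Mathlib.CategoryTheory.Abelian.Exact
import Mathlib.CategoryTheory.Abelian.DiagramLemmas.Four

/-! The image of a weak Serre class under a fully faithful right adjoint. -/

universe v v' u u'

open CategoryTheory CategoryTheory.Limits

namespace Groth.Agent.SiteCmpC

variable {A : Type u} [Category.{v} A] [Abelian A] {B : Type u'} [Category.{v'} B] [Abelian B]
  {F : B ⥤ A} {G : A ⥤ B} (adj : F ⊣ G)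
  (P : ObjectProperty A) [WSerre.IsWeakSerre P]

include adj

/-- The image of a weak Serre class is one, if `G` is exact on it and the left adjoint is exact. -/
theorem isWeakSerre_map [G.Full] [G.Faithful] [PreservesFiniteLimits F]
    (hepi : ∀ S : ShortComplex A, S.ShortExact → P S.X₁ → Epi (G.map S.g)) :
    WSerre.IsWeakSerre (P.map G) := by
  have : G.IsRightAdjoint := ⟨F, ⟨adj⟩⟩
  have : F.IsLeftAdjoint := ⟨G, ⟨adj⟩⟩
  have : PreservesLimits G := adj.rightAdjoint_preservesLimits
  have : PreservesColimits F := adj.leftAdjoint_preservesColimits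
  have : PreservesFiniteLimits G := inferInstance
  have : PreservesFiniteColimits F := inferInstance
  have : G.PreservesZeroMorphisms := inferInstance
  have : F.PreservesZeroMorphisms := inferInstance
  refine @WSerre.IsWeakSerre.mk _ _ _ (P.map G) ⟨?_⟩ ⟨?_⟩ ⟨?_⟩ ⟨?_⟩
  · obtain ⟨Z, hZ, hPZ⟩ := P.exists_prop_of_containsZero
    exact ⟨G.obj Z, G.map_isZero hZ, P.prop_map_obj G hPZ⟩
  · rintro K ⟨f, k, hk, ⟨M, hM, ⟨eM⟩⟩, N, hN, ⟨eN⟩⟩
    let g := G.preimage (eM.hom ≫ f ≫ eN.inv)
    refine ⟨kernel g, P.prop_kernel g hM hN, ⟨PreservesKernel.iso G g ≪≫ ?_⟩⟩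
    exact kernel.mapIso _ f eM eN (by simp [g]) ≪≫ (limit.isLimit _).conePointUniqueUpToIso hk
  · rintro K ⟨f, k, hk, ⟨M, hM, ⟨eM⟩⟩, N, hN, ⟨eN⟩⟩
    let g := G.preimage (eM.hom ≫ f ≫ eN.inv)
    let i : Abelian.image g ⟶ N := kernel.ι (cokernel.π g)
    let p : M ⟶ Abelian.image g := Abelian.factorThruImage g
    have hI : P (Abelian.image g) := P.prop_kernel _ hN (P.prop_cokernel g hM hN)
    let S₁ := ShortComplex.mk i (cokernel.π g) (kernel.condition _)
    have h1 : S₁.ShortExact :=
      ShortComplex.ShortExact.mk' (ShortComplex.exact_of_f_is_kernel S₁ (kernelIsKernel _))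
        (inferInstanceAs (Mono (kernel.ι (cokernel.π g)))) (inferInstanceAs (Epi (cokernel.π g)))
    let S₂ := ShortComplex.mk (kernel.ι p) p (kernel.condition _)
    have h2 : S₂.ShortExact :=
      ShortComplex.ShortExact.mk' (ShortComplex.exact_of_f_is_kernel S₂ (kernelIsKernel _))
        (inferInstanceAs (Mono (kernel.ι p))) (inferInstanceAs (Epi p))
    have hker : P (kernel p) := by
      refine P.prop_of_iso ?_ (P.prop_kernel g hM hN)
      exact kernelIsoOfEq (Abelian.image.fac g).symm ≪≫ kernelCompMono p i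
    have he1 : Epi (G.map (cokernel.π g)) := hepi S₁ h1 hI
    have he2 : Epi (G.map p) := hepi S₂ h2 hker
    have hex : (S₁.map G).Exact := h1.exact.map_of_mono_of_preservesKernel G h1.mono_f inferInstance
    have : Epi (S₁.map G).g := he1
    let c := isCokernelEpiComp hex.gIsCokernel (G.map p) (hg := he2) (h := G.map g)
      (show G.map g = G.map p ≫ G.map i by rw [← G.map_comp]; exact congrArg G.map (Abelian.image.fac g).symm)
    refine ⟨cokernel g, P.prop_cokernel g hM hN, ⟨?_⟩⟩
    exact (c.coconePointUniqueUpToIso (colimit.isColimit _)) ≪≫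
      cokernel.mapIso _ f eM eN (by simp [g]; exact (Category.assoc _ _ _).trans (congrArg (eM.hom ≫ ·) ((Category.assoc _ _ _).trans ((congrArg (f ≫ ·) eN.inv_hom_id).trans (Category.comp_id f))))) ≪≫ (colimit.isColimit _).coconePointUniqueUpToIso hk
  · intro S hS ⟨M, hM, ⟨eM⟩⟩ ⟨N, hN, ⟨eN⟩⟩
    have hFM : P (F.obj S.X₁) := P.prop_of_iso ((asIso (adj.counit.app M)).symm ≪≫ F.mapIso eM) hM
    have hFN : P (F.obj S.X₃) := P.prop_of_iso ((asIso (adj.counit.app N)).symm ≪≫ F.mapIso eN) hN
    have hFS : (S.map F).ShortExact := hS.map_of_exact F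
    have hP2 : P (F.obj S.X₂) := P.prop_X₂_of_shortExact hFS hFM hFN
    have : Epi ((S.map F).map G).g := hepi _ hFS hFM
    have hGS : ((S.map F).map G).ShortExact :=
      ShortComplex.ShortExact.mk' (hFS.exact.map_of_mono_of_preservesKernel G hFS.mono_f inferInstance)
        (haveI := hFS.mono_f; inferInstanceAs (Mono (G.map (S.map F).f))) this
    let φ : S ⟶ (S.map F).map G :=
      { τ₁ := adj.unit.app _, τ₂ := adj.unit.app _, τ₃ := adj.unit.app _
        comm₁₂ := (adj.unit.naturality S.f).symm, comm₂₃ := (adj.unit.naturality S.g).symm }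
    have : IsIso φ.τ₁ := adj.isIso_unit_app_of_iso eM.symm
    have : IsIso φ.τ₃ := adj.isIso_unit_app_of_iso eN.symm
    have h2 := ShortComplex.isIso₂_of_shortExact_of_isIso₁₃ φ hS hGS
    exact ⟨F.obj S.X₂, hP2, ⟨(@asIso _ _ _ _ φ.τ₂ h2).symm⟩⟩

end Groth.Agent.SiteCmpC
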