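import Groth.Agent.SiteCmpC.UnbddEquiv
import Groth.Agent.SiteCmpC.SerreImage
import Mathlib.Algebra.Homology.DerivedCategory.Ext.ExactSequences

/-! The comparison morphism of two topologies on modules. -/

set_option autoImplicit false

universe u

open CategoryTheory CategoryTheory.Limits Opposite DerivedCategory Abelian
open scoped ZeroObject

attribute [local instance] HasDerivedCategory.standard

namespace Groth.Agent.SiteCmpC

open Groth.Agent.SiteBase Groth.Agent.H9Misc

section FullyFaithful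

variable {C : Type u} [SmallCategory C] {J J' : GrothendieckTopology C} (h : J' ≤ J) (O : Sheaf J CommRingCat.{u})

/-- A morphism of direct images comes from a morphism. -/
noncomputable def epsPreimage {M N : ModSite.Mod O}
    (ψ : (SiteCmp.eps h O).push.obj M ⟶ (SiteCmp.eps h O).push.obj N) : M ⟶ N where
  val := PresheafOfModules.homMk
    { app := fun X => ((PresheafOfModules.toPresheaf _).map ψ.val).app X
      naturality := fun X Y a => ((PresheafOfModules.toPresheaf _).map ψ.val).naturality a }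
    (fun X r m => (ψ.val.app X).hom.map_smul r m)

lemma full_push : (SiteCmp.eps h O).push.Full :=
  ⟨fun ψ => ⟨epsPreimage h O ψ, by ext X x; rfl⟩⟩

lemma faithful_push : (SiteCmp.eps h O).push.Faithful :=
  ⟨fun {M N} a b e => by
    ext X x
    exact congrArg (fun t : (SiteCmp.eps h O).push.obj M ⟶ (SiteCmp.eps h O).push.obj N => (t.val.app X).hom x) e⟩

end FullyFaithful

variable {C D : Type u} [SmallCategory C] [SmallCategory D]
  {J : GrothendieckTopology C} {K : GrothendieckTopology D}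
  {O_C : Sheaf J CommRingCat.{u}} {O_D : Sheaf K CommRingCat.{u}}

lemma subsingleton_ext_freeAt (U : C) (F : ModSite.Mod O_C) (k : ℕ) (h : Subsingleton (ModSite.HU O_C F k U)) :
    Subsingleton (Ext (freeAt O_C U) F k) := by
  obtain ⟨e⟩ := nonempty_ext_freeMod_addEquiv (R := ModSite.ringSh O_C) (hSheaf J U) F k
  exact (e.trans (hkRepEquiv U _ k)).toEquiv.subsingleton

/-- Coverings can be refined by members of a covering set. -/
lemma refines_of_isCoveredBy {B : Set C} (hB : DLim.IsCoveredBy J B) {P : C → Prop} (hP : ∀ Y ∈ B, P Y) (V : C) :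
    Refines J P V := fun T hT => by
  choose ι Y q hc hY using fun (a : Σ W : C, { k : W ⟶ V // T.arrows k }) => hB a.1
  refine ⟨Σ a, ι a, fun i => Y i.1 i.2, fun i => q i.1 i.2 ≫ i.1.2.1, fun i => T.downward_closed i.1.2.2 _,
    J.transitive hT _ fun W k hk => mem_of_forall_ofArrows (hc ⟨W, k, hk⟩) fun i => ?_, fun i => hP _ (hY i.1 i.2)⟩
  show (Sieve.ofArrows _ _).arrows (q ⟨W, k, hk⟩ i ≫ k)
  exact Sieve.ofArrows_mk _ _ (⟨⟨W, k, hk⟩, i⟩ : Σ a, ι a)

variable (f : ModSite.RMor O_C O_D)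

/-- The direct image is exact at objects with vanishing first cohomology. -/
lemma epi_push_map {S : ShortComplex (ModSite.Mod O_C)} (hS : S.ShortExact) {B : Set D}
    (hB : DLim.IsCoveredBy K B) (hv : ∀ V ∈ B, Subsingleton (ModSite.HU O_C S.X₁ 1 (f.fn.obj V))) :
    Epi (f.push.map S.g) := by
  refine (toAbF O_D).epi_of_epi_map (epi_of_cover _ hB fun V hV t => ⟨⊤, K.top_mem V, fun W k _ => ?_⟩)
  let ψ := pushSecEquiv f V _ ((freeAtEquiv V (f.push.obj S.X₃)).symm t)
  have := subsingleton_ext_freeAt (f.fn.obj V) S.X₁ 1 (hv V hV)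
  obtain ⟨x₂, hx₂⟩ := Ext.covariant_sequence_exact₃ (freeAt O_C (f.fn.obj V)) hS (Ext.mk₀ ψ) (zero_add 1)
    (Subsingleton.elim _ _)
  obtain ⟨s, rfl⟩ := (Ext.mk₀_bijective _ _).2 x₂
  rw [Ext.mk₀_comp_mk₀] at hx₂
  have hs : s ≫ S.g = ψ := (Ext.mk₀_bijective _ _).1 hx₂
  refine ⟨CohCx.freeSheafMap K k ≫ freeAtEquiv V _ ((pushSecEquiv f V _).symm s), ?_⟩
  rw [Category.assoc]
  congr 1
  refine (freeAtEquiv_comp V _ (f.push.map S.g)).symm.trans ?_
  rw [show (pushSecEquiv f V S.X₂).symm s ≫ f.push.map S.g = (pushSecEquiv f V S.X₃).symm ψ from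
    (Equiv.eq_symm_apply _).2 (by rw [pushSecEquiv_comp, Equiv.apply_symm_apply, hs])]
  exact (congrArg (freeAtEquiv V _) (Equiv.symm_apply_apply _ _)).trans (AddEquiv.apply_symm_apply _ _)

/-- Vanishing of the higher direct images. -/
lemma isZero_Rpush [HasInjectiveResolutions (ModSite.Mod O_C)] [SiteCmp.HasRpushD f] {F : ModSite.Mod O_C} {B : Set D}
    (hB : DLim.IsCoveredBy K B) (hv : ∀ V ∈ B, ∀ p : ℕ, 0 < p → Subsingleton (ModSite.HU O_C F p (f.fn.obj V)))
    (p : ℕ) (hp : 0 < p) : IsZero ((f.Rpush p).obj F) := by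
  obtain ⟨_, _⟩ := exists_isTriangulated_RpushD f
  let S := (singleFunctor (ModSite.Mod O_C) 0).obj F
  let R := (SiteCmp.RpushD f).obj S
  let T := ((singleFunctor (ModSite.Mod O_C) 0).obj (0 : ModSite.Mod O_C))
  have hT : IsZero T := (singleFunctor _ 0).map_isZero (isZero_zero _)
  obtain ⟨e⟩ := nonempty_homology_RpushD_single f F 0 p p (by omega)
  refine IsZero.of_iso ?_ e.symm
  have hm : Mono ((toAbF O_D).map ((homologyFunctor _ (p : ℤ)).map ((SiteCmp.RpushD f).map (0 : S ⟶ T)))) :=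
    mono_of_cover _ hB fun V hV s hs => toAb_H_injective _ (p : ℤ) (fun T' hT' => by
      obtain ⟨ι, Y, q, h1, h2, hY⟩ := refines_of_isCoveredBy hB (P := fun Y => Y ∈ B) (fun Y hY => hY) V T' hT'
      refine ⟨ι, Y, q, h1, h2, fun i => bijective_shift_push f _ (p : ℤ) (Y i) ?_⟩
      refine ⟨fun x y _ => ?_, fun z => ⟨0, ((shiftFunctor _ (p : ℤ)).map_isZero hT).eq_of_tgt _ _⟩⟩
      exact (vanishAbove_of_subsingleton (f.fn.obj (Y i)) F 0 (hv _ (hY i)) p hp x).trans
        (vanishAbove_of_subsingleton (f.fn.obj (Y i)) F 0 (hv _ (hY i)) p hp y).symm) s hs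
  refine @IsZero.of_mono _ _ _ _ _ _ ((toAbF O_D).mono_of_mono_map hm) ?_
  exact (homologyFunctor _ (p : ℤ)).map_isZero ((SiteCmp.RpushD f).map_isZero hT)

/-- The unit at an object of the heart. -/
lemma isIso_unit_single [HasInjectiveResolutions (ModSite.Mod O_C)] [PreservesFiniteLimits f.pull]
    [SiteCmp.HasRpushD f] (adj : SiteCmp.pullD f ⊣ SiteCmp.RpushD f) (F' : ModSite.Mod O_D)
    (hu : IsIso (f.adj.unit.app F')) (hv : ∀ p : ℕ, 0 < p → IsZero ((f.Rpush p).obj (f.pull.obj F'))) :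
    IsIso (adj.unit.app (SiteCmp.inD O_D F')) := by
  obtain ⟨_, _⟩ := exists_isTriangulated_RpushD f
  let S := (SiteCmp.pullD f).obj (SiteCmp.inD O_D F')
  let e₀ : S ≅ (singleFunctor _ 0).obj (f.pull.obj F') := (f.pull.mapDerivedCategorySingleFunctor 0).app F'
  let R := (SiteCmp.RpushD f).obj S
  have : DerivedCategory.IsGE R 0 :=
    have := TStructure.t.isGE_of_iso e₀.symm 0
    isGE_RpushD f S 0
  have : DerivedCategory.IsLE R 0 := (isLE_iff _ _).2 fun i hi => by
    obtain ⟨e⟩ := nonempty_homology_RpushD_single f (f.pull.obj F') 0 i i.toNat (by omega)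
    exact (hv i.toNat (by omega)).of_iso ((homologyFunctor _ i).mapIso ((SiteCmp.RpushD f).mapIso e₀) ≪≫ e)
  obtain ⟨G, ⟨eG⟩⟩ := exists_iso_singleFunctor_obj_of_isGE_of_isLE R 0
  let η := (singleFunctor (ModSite.Mod O_D) 0).preimage (adj.unit.app (SiteCmp.inD O_D F') ≫ eG.hom)
  suffices IsIso η by
    have h : IsIso ((singleFunctor (ModSite.Mod O_D) 0).map η) := inferInstance
    rw [Functor.map_preimage] at h
    exact IsIso.of_isIso_comp_right _ eG.hom
  refine isIso_of_yoneda_map_bijective η fun Z => ?_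
  let i := (f.pull.mapDerivedCategorySingleFunctor 0)
  have key : ∀ x : Z ⟶ F', (singleFunctor _ 0).map (x ≫ η) =
      adj.homEquiv _ _ (i.hom.app Z ≫ (singleFunctor _ 0).map (f.pull.map x) ≫ i.inv.app F') ≫ eG.hom := fun x => by
    have hn : i.hom.app Z ≫ (singleFunctor _ 0).map (f.pull.map x) ≫ i.inv.app F' =
        (SiteCmp.pullD f).map ((singleFunctor _ 0).map x) := by
      refine ((Category.assoc _ _ _).symm.trans (congrArg (· ≫ i.inv.app F') (i.hom.naturality x).symm)).trans ?_
      refine (Category.assoc _ _ _).trans ((congrArg (_ ≫ ·) (Iso.hom_inv_id_app i F')).trans ?_)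
      exact Category.comp_id _
    rw [Functor.map_comp, Functor.map_preimage, hn, adj.homEquiv_unit]
    exact (Category.assoc _ _ _).symm.trans (congrArg (· ≫ eG.hom) (adj.unit.naturality _))
  have hbij : Function.Bijective (fun x : Z ⟶ F' => f.pull.map x) := by
    have h : (fun x : Z ⟶ F' => f.pull.map x) =
        (f.adj.homEquiv Z (f.pull.obj F')).symm ∘ (fun x => x ≫ f.adj.unit.app F') := by
      funext x
      simp [Adjunction.homEquiv_counit]
    rw [h]
    exact (Equiv.bijective _).comp ((asIso (f.adj.unit.app F')).homToEquiv.bijective)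
  have hs := fun (a b : ModSite.Mod O_C) => Functor.FullyFaithful.map_bijective
    (Functor.FullyFaithful.ofFullyFaithful (singleFunctor (ModSite.Mod O_C) 0)) a b
  refine ⟨fun x y hxy => ?_, fun z => ?_⟩
  · have := congrArg (singleFunctor _ 0).map hxy
    rw [key, key, cancel_mono] at this
    have := (adj.homEquiv _ _).injective this
    simp only [cancel_epi, cancel_mono] at this
    exact hbij.1 ((hs _ _).1 this)
  · obtain ⟨w, hw⟩ := (hs _ _).2 (i.inv.app Z ≫ (adj.homEquiv _ _).symm ((singleFunctor _ 0).map z ≫ eG.inv) ≫ i.hom.app F')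
    obtain ⟨x, rfl⟩ := hbij.2 w
    refine ⟨x, (singleFunctor _ 0).map_injective ?_⟩
    rw [key, hw]
    simp
    refine (congrArg (· ≫ eG.hom) ((congrArg (adj.homEquiv _ _) (Category.comp_id _)).trans
      (Equiv.apply_symm_apply _ _))).trans ?_
    simp

end Groth.Agent.SiteCmpC
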