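import Groth.Prelude.Def_SiteCmp
import Groth.Prelude.Def_CohCx
import Groth.Agent.H9Misc.RpushLeftAdj
import Mathlib.CategoryTheory.Limits.Preserves.Shapes.Products

/-! Derived direct images are triangulated and commute with derived limits. -/

universe w v v' u u'

open CategoryTheory CategoryTheory.Limits CategoryTheory.Pretriangulated Opposite

attribute [local instance] HasDerivedCategory.standard

namespace Groth.Agent.SiteCmpC

open DerivedCategory Groth.Agent.H9Misc

section Gen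

variable {T : Type u} [Category.{v} T] [Preadditive T] [HasZeroObject T] [HasShift T ℤ]
  [∀ n : ℤ, (shiftFunctor T n).Additive] [Pretriangulated T]
  {T' : Type u'} [Category.{v'} T'] [Preadditive T'] [HasZeroObject T'] [HasShift T' ℤ]
  [∀ n : ℤ, (shiftFunctor T' n).Additive] [Pretriangulated T']

theorem isRlimVia_map (G : T ⥤ T') [G.CommShift ℤ] [G.IsTriangulated]
    (K : ℕ → T) (t : ∀ n, K (n + 1) ⟶ K n) [HasProduct K] [HasProduct fun n => G.obj (K n)]
    [PreservesLimit (Discrete.functor K) G] (L : T) (a : ∀ n, L ⟶ K n)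
    (h : CohCx.IsRlimVia K t L a) :
    CohCx.IsRlimVia (fun n => G.obj (K n)) (fun n => G.map (t n)) (G.obj L) (fun n => G.map (a n)) := by
  obtain ⟨c, hc⟩ := h
  have := G.map_distinguished _ hc
  let e := PreservesProduct.iso G K
  have he : e.hom = piComparison G K := PreservesProduct.iso_hom G K
  let Δ := G.mapTriangle.obj (Triangle.mk (Pi.lift a) (Pi.lift fun n => Pi.π K n - Pi.π K (n + 1) ≫ t n) c)
  refine ⟨e.inv ≫ G.map c ≫ (G.commShiftIso (1 : ℤ)).hom.app L, isomorphic_distinguished _ this _ ?_⟩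
  have h1 : Pi.lift (fun n => G.map (a n)) ≫ e.inv = G.map (Pi.lift a) := by
    rw [Iso.comp_inv_eq, he]
    exact Pi.hom_ext _ _ fun n => by simp [← Functor.map_comp]
  have h2 : Pi.lift (fun n => Pi.π (fun n => G.obj (K n)) n - Pi.π (fun n => G.obj (K n)) (n + 1) ≫ G.map (t n)) ≫ e.inv =
      e.inv ≫ G.map (Pi.lift fun n => Pi.π K n - Pi.π K (n + 1) ≫ t n) := by
    rw [Iso.comp_inv_eq, Category.assoc, Iso.eq_inv_comp, he]
    exact Pi.hom_ext _ _ fun n => by simp [← Functor.map_comp, Preadditive.comp_sub]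
  refine Triangle.isoMk _ _ (Iso.refl _) e.symm e.symm (h1.trans (Category.id_comp _).symm) h2 ?_
  exact (congrArg (_ ≫ ·) ((shiftFunctor T' (1 : ℤ)).map_id _)).trans (Category.comp_id _)

theorem exists_isTriangulated_of_iso {T₀ : Type*} [Category T₀] [Preadditive T₀] [HasZeroObject T₀] [HasShift T₀ ℤ]
    [∀ n : ℤ, (shiftFunctor T₀ n).Additive] [Pretriangulated T₀]
    {G : T ⥤ T'} (R : T ⥤ T₀) (H : T₀ ⥤ T') [R.CommShift ℤ] [R.IsTriangulated] [H.CommShift ℤ] [H.IsTriangulated]
    (e : R ⋙ H ≅ G) : ∃ (_ : G.CommShift ℤ), G.IsTriangulated := by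
  let hS := Functor.CommShift.ofIso e ℤ
  have := Functor.CommShift.ofIso_compatibility e ℤ
  exact ⟨hS, Functor.isTriangulated_of_iso e⟩

end Gen

section Ab

variable {A : Type (u + 1)} [Category.{u} A] [Abelian A]
  {B : Type (u + 1)} [Category.{u} B] [Abelian B] [IsGrothendieckAbelian.{u} B] (G : B ⥤ A) [G.Additive]
  [(G.mapHomotopyCategory (ComplexShape.up ℤ) ⋙ Qh).HasRightDerivedFunctor
      (HomotopyCategory.quasiIso B (ComplexShape.up ℤ))]

theorem exists_isTriangulated_totalRightDerived :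
    ∃ (_ : ((G.mapHomotopyCategory (ComplexShape.up ℤ) ⋙ Qh).totalRightDerived Qh
      (HomotopyCategory.quasiIso B (ComplexShape.up ℤ))).CommShift ℤ),
      ((G.mapHomotopyCategory (ComplexShape.up ℤ) ⋙ Qh).totalRightDerived Qh
      (HomotopyCategory.quasiIso B (ComplexShape.up ℤ))).IsTriangulated := by
  have := TriCat.qh_isLeftAdjoint_of_exists_resolution (A := B) fun L => by
    obtain ⟨I, g, hI, hg, -, -⟩ := TriCat.exists_kInjective_resolution' L
    exact ⟨I, g, hI, hg⟩
  let adjQ := Adjunction.ofIsLeftAdjoint (Qh (C := B))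
  let W := HomotopyCategory.quasiIso B (ComplexShape.up ℤ)
  let F₀ := G.mapHomotopyCategory (ComplexShape.up ℤ) ⋙ Qh (C := A)
  have := TriCat.isRightDerivedFunctor_of_adjunction adjQ W F₀
  let e : Qh.rightAdjoint ⋙ F₀ ≅ F₀.totalRightDerived Qh W :=
    Functor.rightDerivedUnique (Qh.rightAdjoint ⋙ F₀) _
      (Functor.whiskerRight adjQ.unit F₀ : F₀ ⟶ Qh ⋙ Qh.rightAdjoint ⋙ F₀)
      (F₀.totalRightDerivedUnit Qh W) W
  let _ : (Qh (C := B)).rightAdjoint.CommShift ℤ := adjQ.rightAdjointCommShift ℤ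
  have : adjQ.CommShift ℤ := adjQ.commShift_of_leftAdjoint ℤ
  have : (Qh (C := B)).rightAdjoint.IsTriangulated := adjQ.isTriangulated_rightAdjoint
  exact exists_isTriangulated_of_iso Qh.rightAdjoint F₀ e

end Ab

variable {C D : Type u} [SmallCategory C] [SmallCategory D]
  {J : GrothendieckTopology C} {K : GrothendieckTopology D}
  {O_C : Sheaf J CommRingCat.{u}} {O_D : Sheaf K CommRingCat.{u}} (f : ModSite.RMor O_C O_D)
  [SiteCmp.HasRpushD f]

theorem exists_isTriangulated_RpushD : ∃ (_ : (SiteCmp.RpushD f).CommShift ℤ), (SiteCmp.RpushD f).IsTriangulated :=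
  exists_isTriangulated_totalRightDerived f.push

theorem rpushD_isRlimVia (E : ℕ → DerivedCategory (ModSite.Mod O_C)) (t : ∀ n, E (n + 1) ⟶ E n)
    [HasProduct E] (L : DerivedCategory (ModSite.Mod O_C)) (a : ∀ n, L ⟶ E n) (hL : CohCx.IsRlimVia E t L a)
    [HasProduct fun n => (SiteCmp.RpushD f).obj (E n)] :
    CohCx.IsRlimVia (fun n => (SiteCmp.RpushD f).obj (E n)) (fun n => (SiteCmp.RpushD f).map (t n))
      ((SiteCmp.RpushD f).obj L) (fun n => (SiteCmp.RpushD f).map (a n)) := by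
  obtain ⟨_, _⟩ := exists_isTriangulated_RpushD f
  have := H9Misc.RpushLeftAdj.isRightAdjoint_RpushD f
  have : PreservesLimit (Discrete.functor E) (SiteCmp.RpushD f) := inferInstance
  exact isRlimVia_map _ E t L a hL

end Groth.Agent.SiteCmpC
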