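import Groth.Prelude.Def_WeakSerre
import Groth.Agent.SiteCmpC.Bounded
import Groth.Agent.H9Misc.SerreDerived
import Groth.Agent.TriCat.KInjRes
import Mathlib.Algebra.Homology.DerivedCategory.KInjective

/-! The derived category of a weak Serre class with a coreflection computing cohomology. -/

set_option autoImplicit false

universe w w' u

open CategoryTheory CategoryTheory.Limits DerivedCategory

namespace Groth.Agent.SiteCmpC

open Groth.Agent.H9Misc

lemma comp_iso_cancel {E : Type*} [Category E] {a b c d : E} (x : a ⟶ b) (i : b ≅ c) (t : d ≅ b) :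
    ((x ≫ i.hom) ≫ i.inv ≫ t.inv) ≫ t.hom = x := by simp

variable {A : Type (u + 1)} [Category.{u} A] [Abelian A] [IsGrothendieckAbelian.{u} A] [HasDerivedCategory.{w} A]
  (P : ObjectProperty A) [WSerre.IsWeakSerre P] [HasDerivedCategory.{w'} P.FullSubcategory]
  {T : A ⥤ P.FullSubcategory} [T.Additive] (adj : P.ι ⊣ T)


lemma isIso_of_isIso_toDerived {X Y : DerivedCategory P.FullSubcategory} (g : X ⟶ Y)
    (h : IsIso ((WSerre.toDerived P).map g)) : IsIso g := by
  rw [DerivedCategory.isIso_iff]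
  intro n
  have : IsIso (P.ι.map ((homologyFunctor _ n).map g)) :=
    (NatIso.isIso_map_iff (KFlatLib.mapDCHomologyIso P.ι n) g).1
      (inferInstanceAs (IsIso ((homologyFunctor A n).map ((WSerre.toDerived P).map g))))
  exact isIso_of_fully_faithful P.ι _

include adj in
lemma isKInjective_coreflection (I : CochainComplex A ℤ) [I.IsKInjective] :
    CochainComplex.IsKInjective ((T.mapHomologicalComplex (ComplexShape.up ℤ)).obj I) := by
  rw [CochainComplex.isKInjective_iff_rightOrthogonal]
  intro K f hK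
  let a := SerreDerived.adjHtpy (ComplexShape.up ℤ) adj
  obtain ⟨g, rfl⟩ := (a.homEquiv K ((HomotopyCategory.quotient A (ComplexShape.up ℤ)).obj I)).surjective f
  have hz : IsZero (Qh.obj K) :=
    ((FinDimDerived.isZero_Q_obj_iff K.as).2
      ((HomotopyCategory.quotient_obj_mem_subcategoryAcyclic_iff_acyclic K.as).1 hK)).of_iso
        ((quotientCompQhIso _).app K.as)
  have hz' : IsZero (Qh.obj ((P.ι.mapHomotopyCategory (ComplexShape.up ℤ)).obj K)) :=
    ((WSerre.toDerived P).map_isZero hz).of_iso (P.ι.mapDerivedCategoryFactorsh.app K).symm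
  have : g = 0 := (CochainComplex.IsKInjective.Qh_map_bijective _ I).1 (hz'.eq_of_src _ _)
  rw [this]
  simp [Adjunction.homEquiv_unit]
  rfl

variable (hq : ∀ I : CochainComplex A ℤ, (∀ n, Injective (I.X n)) →
    (∀ n, P ((homologyFunctor A n).obj (Q.obj I))) →
    IsIso (Qh.map ((SerreDerived.adjHtpy (ComplexShape.up ℤ) adj).counit.app ((HomotopyCategory.quotient A (ComplexShape.up ℤ)).obj I))))

include adj hq

/-- Every complex with cohomology in `P` comes from a K-injective complex of `P`. -/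
lemma exists_coreflection (M : DerivedCategory A) (hM : WSerre.cohIn P M) :
    ∃ I : CochainComplex A ℤ, I.IsKInjective ∧
      IsIso (Qh.map ((SerreDerived.adjHtpy (ComplexShape.up ℤ) adj).counit.app ((HomotopyCategory.quotient A (ComplexShape.up ℤ)).obj I))) ∧
      Nonempty (Qh.obj ((HomotopyCategory.quotient A (ComplexShape.up ℤ)).obj I) ≅ M) := by
  have := Localization.essSurj (Q (C := A)) (HomologicalComplex.quasiIso A (ComplexShape.up ℤ))
  obtain ⟨I, g, hI, hg, -, hinj⟩ := TriCat.exists_kInjective_resolution' (Q.objPreimage M)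
  let e : Q.obj I ≅ M := (asIso (Q.map g)).symm ≪≫ Q.objObjPreimageIso M
  exact ⟨I, hI, hq I hinj fun n => P.prop_of_iso ((homologyFunctor A n).mapIso e).symm (hM n),
    ⟨(quotientCompQhIso A).app I ≪≫ e⟩⟩

theorem essImage_toDerived_iff (M : DerivedCategory A) :
    (WSerre.toDerived P).essImage M ↔ WSerre.cohIn P M := by
  constructor
  · rintro ⟨X, ⟨e⟩⟩ n
    exact P.prop_of_iso ((homologyMapIso P.ι X n).symm ≪≫ (homologyFunctor A n).mapIso e)
      ((homologyFunctor _ n).obj X).2
  · intro hM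
    obtain ⟨I, -, hc, ⟨e⟩⟩ := exists_coreflection P adj hq M hM
    exact ⟨Qh.obj ((T.mapHomotopyCategory (ComplexShape.up ℤ)).obj ((HomotopyCategory.quotient A (ComplexShape.up ℤ)).obj I)),
      ⟨P.ι.mapDerivedCategoryFactorsh.app _ ≪≫ @asIso _ _ _ _ _ hc ≪≫ e⟩⟩

theorem bijective_toDerived (X Y : DerivedCategory P.FullSubcategory) :
    Function.Bijective ((WSerre.toDerived P).map : (X ⟶ Y) → _) := by
  let a := SerreDerived.adjHtpy (ComplexShape.up ℤ) adj
  let φ := P.ι.mapDerivedCategoryFactorsh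
  have := Localization.essSurj (Qh (C := P.FullSubcategory)) (HomotopyCategory.quasiIso P.FullSubcategory (ComplexShape.up ℤ))
  obtain ⟨I, hI, hc, ⟨e⟩⟩ := exists_coreflection P adj hq ((WSerre.toDerived P).obj Y)
    ((essImage_toDerived_iff P adj hq _).1 (Functor.obj_mem_essImage _ Y))
  let TI := (T.mapHomotopyCategory (ComplexShape.up ℤ)).obj ((HomotopyCategory.quotient A (ComplexShape.up ℤ)).obj I)
  let KY := Qh.objPreimage Y
  let eY : Qh.obj KY ≅ Y := Qh.objObjPreimageIso Y
  obtain ⟨g, hg⟩ := (CochainComplex.IsKInjective.Qh_map_bijective ((P.ι.mapHomotopyCategory (ComplexShape.up ℤ)).obj KY) I).2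
    ((φ.app KY).inv ≫ (WSerre.toDerived P).map eY.hom ≫ e.inv)
  have hge : IsIso (Qh.map g) := by rw [hg]; infer_instance
  let g' := a.homEquiv KY ((HomotopyCategory.quotient A (ComplexShape.up ℤ)).obj I) g
  have hg' : Qh.map ((P.ι.mapHomotopyCategory (ComplexShape.up ℤ)).map g') ≫ Qh.map (a.counit.app _) = Qh.map g := by
    refine (Qh.map_comp _ _).symm.trans (congrArg Qh.map ?_)
    exact (a.homEquiv_counit _ _ _).symm.trans (Equiv.symm_apply_apply _ _)
  have h1 : IsIso ((Qh (C := P.FullSubcategory)).map g') := by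
    refine isIso_of_isIso_toDerived P _ ((NatIso.isIso_map_iff φ g').2 ?_)
    exact @IsIso.of_isIso_fac_right _ _ _ _ _ _ _ _ hc hge hg'
  let eT : Qh.obj TI ≅ Y := (@asIso _ _ _ _ _ h1).symm ≪≫ eY
  let KX := Qh.objPreimage X
  let eX : Qh.obj KX ≅ X := Qh.objObjPreimageIso X
  suffices h : Function.Bijective (fun f : Qh.obj KX ⟶ Qh.obj TI => (WSerre.toDerived P).map f) by
    have heq : ((WSerre.toDerived P).map : (X ⟶ Y) → _) =
        (Iso.homCongr ((WSerre.toDerived P).mapIso eX) ((WSerre.toDerived P).mapIso eT)) ∘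
          (fun f : Qh.obj KX ⟶ Qh.obj TI => (WSerre.toDerived P).map f) ∘ (Iso.homCongr eX eT).symm := by
      funext f
      simp
    rw [heq]
    exact (Equiv.bijective _).comp (h.comp (Equiv.bijective _))
  let cI : Qh.obj ((P.ι.mapHomotopyCategory (ComplexShape.up ℤ)).obj TI) ≅ Qh.obj ((HomotopyCategory.quotient A (ComplexShape.up ℤ)).obj I) := @asIso _ _ _ _ _ hc
  let Ψ : (KX ⟶ TI) → ((WSerre.toDerived P).obj (Qh.obj KX) ⟶ (WSerre.toDerived P).obj (Qh.obj TI)) := fun k =>
    (φ.app KX).hom ≫ Qh.map ((a.homEquiv KX _).symm k) ≫ cI.inv ≫ (φ.app TI).inv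
  have hΨ : Function.Bijective Ψ :=
    (Iso.homCongr (φ.app KX).symm ((cI.symm) ≪≫ (φ.app TI).symm)).bijective.comp
      ((CochainComplex.IsKInjective.Qh_map_bijective ((P.ι.mapHomotopyCategory (ComplexShape.up ℤ)).obj KX) I).comp (a.homEquiv KX _).symm.bijective) |> fun h => by
      refine (congrArg Function.Bijective ?_).mp h
      funext k
      simp [Ψ]
  have hK : CochainComplex.IsKInjective ((T.mapHomologicalComplex (ComplexShape.up ℤ)).obj I) := isKInjective_coreflection P adj I
  have hQ := CochainComplex.IsKInjective.Qh_map_bijective KX ((T.mapHomologicalComplex (ComplexShape.up ℤ)).obj I)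
  refine (Function.Bijective.of_comp_iff _ hQ).1 ((congrArg Function.Bijective ?_).mpr hΨ)
  funext k
  show (WSerre.toDerived P).map (Qh.map k) = (φ.app KX).hom ≫ Qh.map ((a.homEquiv KX _).symm k) ≫ cI.inv ≫ (φ.app TI).inv
  have hk : Qh.map ((a.homEquiv KX _).symm k) = Qh.map ((P.ι.mapHomotopyCategory (ComplexShape.up ℤ)).map k) ≫ cI.hom :=
    (congrArg Qh.map (a.homEquiv_counit _ _ _)).trans (Qh.map_comp _ _)
  refine (cancel_mono (φ.app TI).hom).1 ((φ.hom.naturality k).trans ?_)
  rw [hk]
  exact (congrArg ((φ.app KX).hom ≫ ·) (comp_iso_cancel _ cI (φ.app TI)).symm).trans (Category.assoc _ _ _).symm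

theorem full_faithful_toDerived :
    (WSerre.toDerived P).Full ∧ (WSerre.toDerived P).Faithful :=
  ⟨⟨fun g => (bijective_toDerived P adj hq _ _).2 g⟩, ⟨fun {X Y} f g h => (bijective_toDerived P adj hq X Y).1 h⟩⟩

end Groth.Agent.SiteCmpC
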