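import Groth.Agent.SiteBase.HDUSheafify
import Groth.Agent.SiteBase.DLim.Rlim

/-! Local criteria for maps on cohomology sheaves of complexes of abelian sheaves. -/

set_option autoImplicit false

universe u

open CategoryTheory CategoryTheory.Limits Opposite

namespace Groth.Agent.SiteCmpC

open Groth.Agent.SiteBase Groth.Agent.HDUSheafify

variable {C : Type u} [SmallCategory C] {J : GrothendieckTopology C}
  {X X' : CochainComplex (Sheaf J AddCommGrpCat.{u}) ℤ} (g : X ⟶ X') (j : ℤ)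

/-- Injectivity of `g` on the `j`th cohomology of sections over `U`. -/
def SecInj (U : C) : Prop :=
  ∀ z : CohCx.freeSheaf J U ⟶ X.X j, z ≫ X.d j (j + 1) = 0 →
    ∀ y' : CohCx.freeSheaf J U ⟶ X'.X (j - 1), y' ≫ X'.d (j - 1) j = z ≫ g.f j →
      ∃ y, y ≫ X.d (j - 1) j = z

/-- Surjectivity of `g` on the `j`th cohomology of sections over `U`. -/
def SecSurj (U : C) : Prop :=
  ∀ z' : CohCx.freeSheaf J U ⟶ X'.X j, z' ≫ X'.d j (j + 1) = 0 →
    ∃ (z : CohCx.freeSheaf J U ⟶ X.X j) (y' : CohCx.freeSheaf J U ⟶ X'.X (j - 1)),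
      z ≫ X.d j (j + 1) = 0 ∧ z ≫ g.f j - z' = y' ≫ X'.d (j - 1) j

/-- Refinable by objects satisfying `P`. -/
def Refines (J : GrothendieckTopology C) (P : C → Prop) (V : C) : Prop :=
  ∀ T ∈ J V, ∃ (ι : Type u) (Y : ι → C) (f : ∀ i, Y i ⟶ V), (∀ i, T.arrows (f i)) ∧
    Sieve.ofArrows Y f ∈ J V ∧ ∀ i, P (Y i)

lemma mem_of_forall_ofArrows {U : C} {S : Sieve U} {ι : Type u} {Y : ι → C} {f : ∀ i, Y i ⟶ U}
    (h : Sieve.ofArrows Y f ∈ J U) (hS : ∀ i, S.arrows (f i)) : S ∈ J U := by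
  refine J.superset_covering ?_ h
  rintro Z k ⟨Z', a, b, ⟨i⟩, rfl⟩
  exact S.downward_closed (hS i) a

lemma eq_zero_of_locally {U : C} {F : Sheaf J AddCommGrpCat.{u}} (s : CohCx.freeSheaf J U ⟶ F)
    {R : Sieve U} (hR : R ∈ J U) (h : ∀ (V : C) (f : V ⟶ U), R f → CohCx.freeSheafMap J f ≫ s = 0) :
    s = 0 := by
  apply (secEquiv J U F).injective
  refine DLim.sections_separated F hR _ _ fun V f hf => ?_
  rw [← secEquiv_freeSheafMap, h V f hf, map_zero, map_zero, map_zero]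

lemma exists_cycle_cover (X : CochainComplex (Sheaf J AddCommGrpCat.{u}) ℤ) {U : C}
    (s : CohCx.freeSheaf J U ⟶ X.homology j) :
    ∃ R ∈ J U, ∀ (V : C) (f : V ⟶ U), R f →
      ∃ z : CohCx.freeSheaf J V ⟶ X.cycles j, z ≫ X.homologyπ j = CohCx.freeSheafMap J f ≫ s :=
  exists_lift (X.homologyπ j) s

lemma exists_boundary_cover (X : CochainComplex (Sheaf J AddCommGrpCat.{u}) ℤ) {U : C}
    (z : CohCx.freeSheaf J U ⟶ X.cycles j) (hz : z ≫ X.homologyπ j = 0) :
    ∃ R ∈ J U, ∀ (V : C) (f : V ⟶ U), R f →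
      ∃ y : CohCx.freeSheaf J V ⟶ X.X (j - 1), y ≫ X.toCycles (j - 1) j = CohCx.freeSheafMap J f ≫ z := by
  have hex : (ShortComplex.mk (X.toCycles (j - 1) j) (X.homologyπ j) (by simp)).Exact :=
    ShortComplex.exact_of_g_is_cokernel _ (X.homologyIsCokernel (j - 1) j (by simp))
  obtain ⟨A', p, hp, x₁, hx⟩ := hex.exact_up_to_refinements z hz
  obtain ⟨R, hR, hlift⟩ := exists_lift p (𝟙 (CohCx.freeSheaf J U))
  refine ⟨R, hR, fun V f hf => ?_⟩
  obtain ⟨a, ha⟩ := hlift V f hf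
  rw [Category.comp_id] at ha
  exact ⟨a ≫ x₁, by rw [Category.assoc, ← hx, ← ha, Category.assoc]⟩

theorem homologyMap_app_injective {V : C} (h : Refines J (SecInj g j) V) :
    ∀ s : CohCx.freeSheaf J V ⟶ X.homology j, s ≫ HomologicalComplex.homologyMap g j = 0 → s = 0 := by
  intro s hs
  obtain ⟨R, hR, hlift⟩ := exists_cycle_cover j X s
  choose z hz using hlift
  have hb : ∀ (W : C) (f : W ⟶ V) (hf : R f), ∃ R' ∈ J W, ∀ (W' : C) (f' : W' ⟶ W), R' f' →
      ∃ y : CohCx.freeSheaf J W' ⟶ X'.X (j - 1), y ≫ X'.toCycles (j - 1) j =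
        CohCx.freeSheafMap J f' ≫ z W f hf ≫ HomologicalComplex.cyclesMap g j := fun W f hf => by
    obtain ⟨R', hR', hy⟩ := exists_boundary_cover j X' (z W f hf ≫ HomologicalComplex.cyclesMap g j) (by
      rw [Category.assoc, ← HomologicalComplex.homologyπ_naturality, reassoc_of% (hz W f hf), hs, comp_zero])
    exact ⟨R', hR', hy⟩
  choose R' hR' hy using hb
  obtain ⟨ι, Y, q, hT, hcov, hP⟩ := h (Sieve.bind R.arrows fun W f hf => R' W f hf)
    (J.bind_covering hR fun W f hf => hR' W f hf)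
  refine eq_zero_of_locally s (R := Sieve.ofArrows Y q) hcov ?_
  rintro W' k ⟨Z', a, b, ⟨i⟩, rfl⟩
  obtain ⟨W, f', f, hf, hf', e⟩ := hT i
  obtain ⟨y', hy'⟩ := hy W f hf _ f' hf'
  obtain ⟨y, hy⟩ := hP i (CohCx.freeSheafMap J f' ≫ z W f hf ≫ X.iCycles j) (by simp) y' (by
    have := congrArg (· ≫ X'.iCycles j) hy'
    simp only [Category.assoc, HomologicalComplex.toCycles_i, HomologicalComplex.cyclesMap_i] at this
    simpa only [Category.assoc] using this)
  have h1 : CohCx.freeSheafMap J f' ≫ z W f hf = y ≫ X.toCycles (j - 1) j := by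
    rw [← cancel_mono (X.iCycles j), Category.assoc, Category.assoc, X.toCycles_i, hy]
  have h2 : CohCx.freeSheafMap J (q i) ≫ s = 0 := by
    rw [← e, freeSheafMap_comp, Category.assoc, ← hz W f hf, reassoc_of% h1, X.toCycles_comp_homologyπ, comp_zero]
  rw [freeSheafMap_comp, Category.assoc, h2, comp_zero]

theorem exists_locally_preimage {V : C} (h : Refines J (SecSurj g j) V)
    (t : CohCx.freeSheaf J V ⟶ X'.homology j) :
    ∃ R ∈ J V, ∀ (W : C) (f : W ⟶ V), R f →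
      ∃ s : CohCx.freeSheaf J W ⟶ X.homology j, s ≫ HomologicalComplex.homologyMap g j = CohCx.freeSheafMap J f ≫ t := by
  obtain ⟨R, hR, hlift⟩ := exists_cycle_cover j X' t
  obtain ⟨ι, Y, q, hT, hcov, hP⟩ := h R hR
  refine ⟨Sieve.ofArrows Y q, hcov, ?_⟩
  rintro W k ⟨Z', a, b, ⟨i⟩, rfl⟩
  obtain ⟨z', hz'⟩ := hlift _ (q i) (hT i)
  obtain ⟨z, y', hz, hy⟩ := hP i (z' ≫ X'.iCycles j) (by simp)
  have hzc : X.liftCycles z (j + 1) (by simp) hz ≫ HomologicalComplex.cyclesMap g j =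
      z' + y' ≫ X'.toCycles (j - 1) j := by
    rw [← cancel_mono (X'.iCycles j)]
    simp [← hy]
  refine ⟨CohCx.freeSheafMap J a ≫ X.liftCycles z (j + 1) (by simp) hz ≫ X.homologyπ j, ?_⟩
  rw [Category.assoc, Category.assoc, HomologicalComplex.homologyπ_naturality, ← Category.assoc (X.liftCycles _ _ _ _),
    hzc, Preadditive.add_comp, hz', Category.assoc y', X'.toCycles_comp_homologyπ, comp_zero, add_zero,
    freeSheafMap_comp, Category.assoc]

/-- The morphism of sheaves is a monomorphism if it is injective over a cover. -/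
lemma mono_of_cover {F G : Sheaf J AddCommGrpCat.{u}} (ψ : F ⟶ G) {B : Set C} (hB : DLim.IsCoveredBy J B)
    (h : ∀ V ∈ B, ∀ s : CohCx.freeSheaf J V ⟶ F, s ≫ ψ = 0 → s = 0) : Mono ψ := by
  refine Preadditive.mono_of_cancel_zero _ fun {Z} t ht => ?_
  ext W x
  obtain ⟨ι, Y, q, hcov, hY⟩ := hB W.unop
  have h0 : (secEquiv J W.unop Z).symm x ≫ t = 0 := by
    refine eq_zero_of_locally _ hcov ?_
    rintro W' k ⟨Z', a, b, ⟨i⟩, rfl⟩
    rw [freeSheafMap_comp, Category.assoc, h _ (hY i) (CohCx.freeSheafMap J (q i) ≫ (secEquiv J W.unop Z).symm x ≫ t)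
      (by rw [Category.assoc, Category.assoc, ht, comp_zero, comp_zero]), comp_zero]
  have := congrArg (secEquiv J W.unop F) h0
  rw [secEquiv_comp, AddEquiv.apply_symm_apply, map_zero] at this
  exact this

/-- The morphism of sheaves is an epimorphism if it is locally surjective over a cover. -/
lemma epi_of_cover {F G : Sheaf J AddCommGrpCat.{u}} (ψ : F ⟶ G) {B : Set C} (hB : DLim.IsCoveredBy J B)
    (h : ∀ V ∈ B, ∀ t : CohCx.freeSheaf J V ⟶ G, ∃ R ∈ J V, ∀ (W : C) (f : W ⟶ V), R f →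
      ∃ s : CohCx.freeSheaf J W ⟶ F, s ≫ ψ = CohCx.freeSheafMap J f ≫ t) : Epi ψ := by
  refine Preadditive.epi_of_cancel_zero _ fun {Z} r hr => ?_
  ext W x
  obtain ⟨ι, Y, q, hcov, hY⟩ := hB W.unop
  have h0 : (secEquiv J W.unop G).symm x ≫ r = 0 := by
    refine eq_zero_of_locally _ hcov ?_
    rintro W' k ⟨Z', a, b, ⟨i⟩, rfl⟩
    rw [freeSheafMap_comp, Category.assoc]
    suffices CohCx.freeSheafMap J (q i) ≫ (secEquiv J W.unop G).symm x ≫ r = 0 by rw [this, comp_zero]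
    obtain ⟨R, hR, hs⟩ := h _ (hY i) (CohCx.freeSheafMap J (q i) ≫ (secEquiv J W.unop G).symm x)
    refine eq_zero_of_locally _ hR fun W'' f hf => ?_
    obtain ⟨s, hs⟩ := hs W'' f hf
    rw [← Category.assoc (CohCx.freeSheafMap J (q i)), ← Category.assoc (CohCx.freeSheafMap J f), ← hs,
      Category.assoc, hr, comp_zero]
  have := congrArg (secEquiv J W.unop Z) h0
  rw [secEquiv_comp, AddEquiv.apply_symm_apply, map_zero] at this
  exact this

end Groth.Agent.SiteCmpC
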