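import Groth.Agent.SiteBase.DLim.Rlim
import Groth.Agent.SiteCmpC.CohIn
import Groth.Agent.TriCat.DerivedProducts

/-! Morphisms out of an object of bounded cohomological dimension into derived limits of truncations. -/

universe w u

open CategoryTheory CategoryTheory.Limits CategoryTheory.Pretriangulated DerivedCategory

namespace Groth.Agent.SiteCmpC

open Groth.Agent.H9Misc

lemma exists_compatible : ∀ (n : ℕ) (X : ℕ → Type w) (t : ∀ k, X (k + 1) → X k),
    (∀ k, n ≤ k → Function.Surjective (t k)) → ∀ x : X n, ∃ y : ∀ k, X k, (∀ k, t k (y (k + 1)) = y k) ∧ y n = x := by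
  intro n
  induction n with
  | zero =>
    intro X t ht x
    choose g hg using fun k => ht k (Nat.zero_le k)
    exact ⟨fun k => Nat.rec x (fun i z => g i z) k, fun k => hg k _, rfl⟩
  | succ n ih =>
    intro X t ht x
    obtain ⟨y', hy', hn⟩ := ih (fun k => X (k + 1)) (fun k => t (k + 1)) (fun k hk => ht (k + 1) (by omega)) x
    let y : ∀ k, X k
      | 0 => t 0 (y' 0)
      | k + 1 => y' k
    refine ⟨y, fun k => ?_, hn⟩
    cases k with
    | zero => rfl
    | succ k => exact hy' k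

variable {A : Type (u + 1)} [Category.{u} A] [Abelian A] [HasDerivedCategory.{w} A]

/-- `Ext^k(P, F) = 0` for `k > d`. -/
def VanishAbove (P F : A) (d : ℕ) : Prop :=
  ∀ k : ℕ, d < k → ∀ φ : (singleFunctor A 0).obj P ⟶ ((singleFunctor A 0).obj F)⟦(k : ℤ)⟧, φ = 0

lemma VanishAbove.of_iso {P F F' : A} {d : ℕ} (e : F ≅ F') (h : VanishAbove P F d) : VanishAbove P F' d :=
  fun k hk φ => by
    rw [← cancel_mono ((shiftFunctor _ (k : ℤ)).map ((singleFunctor A 0).map e.inv)), zero_comp]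
    exact h k hk _

lemma hom_eq_zero_of_heart {P : A} {d : ℕ} (F : DerivedCategory A) (a m : ℤ) [F.IsGE a] [F.IsLE a]
    (h : VanishAbove P ((homologyFunctor A a).obj F) d) (hm : m < a ∨ (d : ℤ) < m - a)
    (φ : (singleFunctor A 0).obj P ⟶ F⟦m⟧) : φ = 0 := by
  rcases hm with hm | hm
  · have : (F⟦m⟧).IsGE (a - m) := TStructure.t.isGE_shift F a m (a - m) (by omega)
    exact TStructure.t.zero φ 0 (a - m) (by omega)
  · obtain ⟨k, hk⟩ : ∃ k : ℕ, a + k = m := ⟨(m - a).toNat, by omega⟩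
    obtain ⟨G, ⟨e⟩⟩ := exists_iso_singleFunctor_obj_of_isGE_of_isLE F a
    let eG : (homologyFunctor A a).obj F ≅ G :=
      (homologyFunctor A a).mapIso e ≪≫ (singleFunctorCompHomologyFunctorIso A a).app G
    let i : ((singleFunctor A 0).obj G)⟦(k : ℤ)⟧ ≅ F⟦m⟧ :=
      (shiftFunctor _ (k : ℤ)).mapIso (((singleFunctors A).shiftIso a 0 a (add_zero a)).app G).symm ≪≫
        ((shiftFunctorAdd' (DerivedCategory A) a (k : ℤ) m hk).app _).symm ≪≫
        (shiftFunctor _ m).mapIso e.symm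
    rw [← cancel_mono i.inv, zero_comp]
    exact (h.of_iso eG) k (by omega) _

/-- The fibre of `τ_{≥ a} E ⟶ τ_{≥ a+1} E`. -/
lemma exists_truncFibre (E : DerivedCategory A) (a b : ℤ) (hb : a + 1 = b) :
    ∃ (F : DerivedCategory A) (f : F ⟶ (TStructure.t.truncGE a).obj E)
      (h : (TStructure.t.truncGE b).obj E ⟶ F⟦(1 : ℤ)⟧),
      Triangle.mk f ((TStructure.t.natTransTruncGEOfLE a b (by omega)).app E) h ∈ distinguishedTriangles ∧
      F.IsGE a ∧ F.IsLE a ∧ Nonempty ((homologyFunctor A a).obj F ≅ (homologyFunctor A a).obj E) := by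
  let H := homologyFunctor A
  let g := (TStructure.t.natTransTruncGEOfLE a b (by omega)).app E
  obtain ⟨F, f, h, hT⟩ := distinguished_cocone_triangle₁ g
  have hX : DerivedCategory.IsGE ((TStructure.t.truncGE a).obj E) a :=
    inferInstanceAs (TStructure.t.IsGE ((TStructure.t.truncGE a).obj E) a)
  have hX' : DerivedCategory.IsGE ((TStructure.t.truncGE b).obj E) b :=
    inferInstanceAs (TStructure.t.IsGE ((TStructure.t.truncGE b).obj E) b)
  have hiso : ∀ i, b ≤ i → IsIso ((H i).map g) := fun i hi => by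
    have e := congrArg (H i).map (TStructure.t.π_natTransTruncGEOfLE_app a b (by omega) E)
    rw [Functor.map_comp] at e
    have := WayOut.isIso_H_truncGE E a i (by omega)
    have := WayOut.isIso_H_truncGE E b i hi
    exact IsIso.of_isIso_fac_left e
  have hz : ∀ i, i < b → IsZero ((H i).obj ((TStructure.t.truncGE b).obj E)) := fun i hi =>
    isZero_of_isGE _ b i hi
  have hepi : ∀ i, a ≤ i → Epi ((H i).map g) := fun i hi => by
    by_cases h' : b ≤ i
    · have := hiso i h'; infer_instance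
    · exact ⟨fun u v _ => (hz i (by omega)).eq_of_src u v⟩
  have hF : ∀ i, i ≠ a → IsZero ((H i).obj F) := fun i hi => by
    have hm : Mono ((H i).map f) := by
      refine (HomologySequence.mono_homologyMap_mor₁_iff _ hT (i - 1) i).2 ?_
      by_cases h' : i - 1 < b
      · exact (hz (i - 1) h').eq_of_src _ _
      · have := hepi (i - 1) (by omega)
        exact (HomologySequence.epi_homologyMap_mor₂_iff _ hT (i - 1) i).1 this
    have hzero : (H i).map f = 0 := by
      by_cases h' : i < a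
      · exact (isZero_of_isGE _ a i h').eq_of_tgt _ _
      · have := hiso i (by omega)
        refine (cancel_mono ((H i).map g)).1 ?_
        rw [zero_comp, ← Functor.map_comp]
        exact (congrArg (H i).map (comp_distTriang_mor_zero₁₂ _ hT)).trans (Functor.map_zero _ _ _)
    exact @IsZero.of_mono_eq_zero _ _ _ _ _ _ hm hzero
  have hm : Mono ((H a).map f) :=
    (HomologySequence.mono_homologyMap_mor₁_iff _ hT (a - 1) a).2
      ((hz (a - 1) (by omega)).eq_of_src _ _)
  have he : Epi ((H a).map f) :=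
    (HomologySequence.epi_homologyMap_mor₁_iff _ hT a).2 ((hz a (by omega)).eq_of_tgt _ _)
  have : IsIso ((H a).map f) := isIso_of_mono_of_epi _
  have := WayOut.isIso_H_truncGE E a a le_rfl
  exact ⟨F, f, h, hT, (isGE_iff _ _).2 fun i hi => hF i (by omega),
    (isLE_iff _ _).2 fun i hi => hF i (by omega),
    ⟨asIso ((H a).map f) ≪≫ (asIso ((H a).map ((TStructure.t.truncGEπ a).app E))).symm⟩⟩

section Tower

variable {P : A} {d : ℕ} {E : DerivedCategory A}
  (hP : ∀ q : ℤ, VanishAbove P ((homologyFunctor A q).obj E) d)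
include hP

lemma truncTowerMap_injective (m : ℤ) (n : ℕ) (hn : (d : ℤ) < m + n + 1)
    (x : (singleFunctor A 0).obj P ⟶ (CohCx.truncTower E (n + 1))⟦m⟧)
    (hx : x ≫ (CohCx.truncTowerMap E n)⟦m⟧' = 0) : x = 0 := by
  obtain ⟨F, f, h, hT, _, _, ⟨e⟩⟩ := exists_truncFibre E (-((n + 1 : ℕ) : ℤ)) (-(n : ℤ)) (by omega)
  obtain ⟨y, rfl⟩ := DLim.exact₂_mk hT m x hx
  rw [hom_eq_zero_of_heart F _ m ((hP _).of_iso e.symm) (Or.inr (by omega)) y, zero_comp]

lemma truncTowerMap_surjective (m : ℤ) (n : ℕ) (hn : (d : ℤ) < m + n + 1 + 1)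
    (x : (singleFunctor A 0).obj P ⟶ (CohCx.truncTower E n)⟦m⟧) :
    ∃ y : (singleFunctor A 0).obj P ⟶ (CohCx.truncTower E (n + 1))⟦m⟧,
      y ≫ (CohCx.truncTowerMap E n)⟦m⟧' = x := by
  obtain ⟨F, f, h, hT, _, _, ⟨e⟩⟩ := exists_truncFibre E (-((n + 1 : ℕ) : ℤ)) (-(n : ℤ)) (by omega)
  refine DLim.exact₃_shift _ hT m x ?_
  refine (cancel_mono ((shiftFunctorAdd' _ (1 : ℤ) m (m + 1) (by omega)).inv.app F)).1 ?_
  exact (hom_eq_zero_of_heart F _ (m + 1) ((hP _).of_iso e.symm) (Or.inr (by omega)) _).trans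
    (hom_eq_zero_of_heart F _ (m + 1) ((hP _).of_iso e.symm) (Or.inr (by omega)) _).symm

variable [HasProduct (CohCx.truncTower E)] {L : DerivedCategory A} {a : ∀ n, L ⟶ CohCx.truncTower E n}

theorem rlim_proj_bijective (hL : CohCx.IsRlimVia (CohCx.truncTower E) (CohCx.truncTowerMap E) L a)
    (m : ℤ) (n : ℕ) (hn : (d : ℤ) < m + n + 1) :
    Function.Bijective (fun x : (singleFunctor A 0).obj P ⟶ L⟦m⟧ => x ≫ (a n)⟦m⟧') := by
  let K := CohCx.truncTower E
  let t := CohCx.truncTowerMap E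
  let S := (singleFunctor A 0).obj P
  have hstep : ∀ k (x : S ⟶ L⟦m⟧), (x ≫ (a (k + 1))⟦m⟧') ≫ (t k)⟦m⟧' = x ≫ (a k)⟦m⟧' := fun k x => by
    rw [Category.assoc, ← Functor.map_comp, DLim.rlim_comp_t hL]
  refine ⟨fun x y hxy => ?_, fun x => ?_⟩
  · rw [← sub_eq_zero]
    have h0 : (x - y) ≫ (a n)⟦m⟧' = 0 := by rw [Preadditive.sub_comp, sub_eq_zero]; exact hxy
    have hbig : ∀ k, (x - y) ≫ (a (n + k))⟦m⟧' = 0 := fun k => by
      induction k with
      | zero => exact h0
      | succ k ih => exact truncTowerMap_injective hP m (n + k) (by omega) _ ((hstep (n + k) (x - y)).trans ih)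
    have hall : ∀ k, (x - y) ≫ (a k)⟦m⟧' = 0 := fun k => by
      have hge : (x - y) ≫ (a (k + n))⟦m⟧' = 0 := by rw [Nat.add_comm]; exact hbig k
      have hdec : ∀ i k, (x - y) ≫ (a (k + i))⟦m⟧' = 0 → (x - y) ≫ (a k)⟦m⟧' = 0 := by
        intro i
        induction i with
        | zero => intro k h; exact h
        | succ i ih => intro k h; exact ih k (by rw [← hstep]; exact (congrArg (· ≫ _) h).trans zero_comp)
      exact hdec n k hge
    refine DLim.rlim_eq_zero hL m (fun b => ?_) _ hall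
    obtain ⟨w, hw⟩ := DLim.limOne_of_eventually_surjective n (fun k => S ⟶ (K k)⟦m - 1⟧)
      (fun k => Preadditive.rightComp S ((t k)⟦m - 1⟧'))
      (fun k hk z => truncTowerMap_surjective hP (m - 1) k (by omega) z) b
    exact ⟨w, hw⟩
  · obtain ⟨w, hw, hwn⟩ := exists_compatible n (fun k => S ⟶ (K k)⟦m⟧) (fun k z => z ≫ (t k)⟦m⟧')
      (fun k hk z => truncTowerMap_surjective hP m k (by omega) z) x
    obtain ⟨y, hy⟩ := DLim.rlim_exists_lift hL m w hw
    exact ⟨y, (hy n).trans hwn⟩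

end Tower

end Groth.Agent.SiteCmpC
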