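import Groth.Prelude.Def_SiteCmp
import Groth.Agent.SiteBase.ExtMod
import Groth.Agent.SiteBase.HKRep
import Groth.Agent.SiteCmpC.SecLocal
import Groth.Agent.SiteCmpC.TruncLim
import Mathlib.Algebra.Homology.DerivedCategory.KInjective
import Mathlib.Algebra.Homology.HomotopyCategory.HomComplexSingle
import Mathlib.Algebra.Homology.HomotopyCategory.HomComplexCohomology

/-! Sections of K-injective complexes of modules and morphisms in the derived category. -/

set_option autoImplicit false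

universe u

open CategoryTheory CategoryTheory.Limits Opposite Abelian CochainComplex.HomComplex

attribute [local instance] HasDerivedCategory.standard

namespace Groth.Agent.SiteCmpC

open Groth.Agent.SiteBase

variable {C : Type u} [SmallCategory C] {J : GrothendieckTopology C} {O : Sheaf J CommRingCat.{u}}

/-- The free module on a representable. -/
noncomputable abbrev freeAt (O : Sheaf J CommRingCat.{u}) (U : C) : ModSite.Mod O :=
  (freeModSh (ModSite.ringSh O)).obj (hSheaf J U)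

/-- Morphisms out of `freeAt U` are morphisms out of the free abelian sheaf on `U`. -/
noncomputable def freeAtEquiv (U : C) (M : ModSite.Mod O) :
    (freeAt O U ⟶ M) ≃+ (CohCx.freeSheaf J U ⟶ ModSite.toAb M) where
  toFun φ := (freeSheafifyIso J).inv.app (yoneda.obj U) ≫ freeModAddEquiv (hSheaf J U) M φ
  invFun ψ := (freeModAddEquiv (hSheaf J U) M).symm ((freeSheafifyIso J).hom.app (yoneda.obj U) ≫ ψ)
  left_inv φ := by
    dsimp only
    rw [Iso.hom_inv_id_app_assoc]
    exact AddEquiv.symm_apply_apply _ _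
  right_inv ψ := by
    refine (congrArg (_ ≫ ·) (AddEquiv.apply_symm_apply _ _)).trans ?_
    exact Iso.inv_hom_id_app_assoc _ _ _
  map_add' a b := by
    rw [map_add]
    exact Preadditive.comp_add _ _ _ _ _ _

lemma freeAtEquiv_comp (U : C) {M N : ModSite.Mod O} (φ : freeAt O U ⟶ M) (g : M ⟶ N) :
    freeAtEquiv U N (φ ≫ g) = freeAtEquiv U M φ ≫ (SheafOfModules.toSheaf (ModSite.ringSh O)).map g := by
  show (freeSheafifyIso J).inv.app _ ≫ freeModEquiv (hSheaf J U) N (φ ≫ g) =
    ((freeSheafifyIso J).inv.app _ ≫ freeModEquiv (hSheaf J U) M φ) ≫ _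
  rw [freeModEquiv_eq, freeModEquiv_eq (hSheaf J U) φ, Functor.map_comp]
  simp

lemma vanishAbove_of_subsingleton (U : C) (F : ModSite.Mod O) (d : ℕ)
    (h : ∀ k : ℕ, d < k → Subsingleton (ModSite.HU O F k U)) : VanishAbove (freeAt O U) F d := by
  intro k hk φ
  obtain ⟨e⟩ := nonempty_ext_freeMod_addEquiv (R := ModSite.ringSh O) (hSheaf J U) F k
  have := h k hk
  have h1 : Subsingleton (Ext (freeAt O U) F k) :=
    (e.trans (hkRepEquiv U _ k)).toEquiv.subsingleton
  exact @Subsingleton.elim _ (Ext.homEquiv.symm.subsingleton) φ 0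

section Classes

variable {A : Type (u + 1)} [Category.{u} A] [Abelian A] (P : A)
  (I : CochainComplex A ℤ) [I.IsKInjective] (q : ℤ)

/-- Cocycles as morphisms in the derived category. -/
noncomputable def clsMap :
    Cocycle ((CochainComplex.singleFunctor _ 0).obj P) I q →+
      (DerivedCategory.Q.obj ((CochainComplex.singleFunctor _ 0).obj P) ⟶ (DerivedCategory.Q.obj I)⟦q⟧) :=
  AddMonoidHom.mk' (fun z => DerivedCategory.Q.map (Cocycle.equivHomShift.symm z) ≫
      (DerivedCategory.Q.commShiftIso q).hom.app I) (fun a b => by simp)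

lemma clsMap_eq (z : Cocycle ((CochainComplex.singleFunctor _ 0).obj P) I q) :
    clsMap P I q z = (DerivedCategory.quotientCompQhIso _).inv.app _ ≫
      DerivedCategory.Qh.map (CohomologyClass.toHom (.mk z)) ≫
        (DerivedCategory.quotientCompQhIso _).hom.app (I⟦q⟧) ≫
          (DerivedCategory.Q.commShiftIso q).hom.app I := by
  simp only [clsMap, AddMonoidHom.mk'_apply, CohomologyClass.toHom_mk]
  have h := (DerivedCategory.quotientCompQhIso A).hom.naturality
    (Cocycle.equivHomShift.symm z)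
  dsimp at h
  refine (Iso.inv_hom_id_app_assoc (DerivedCategory.quotientCompQhIso A) _ _).symm.trans ?_
  exact congrArg ((DerivedCategory.quotientCompQhIso A).inv.app _ ≫ ·) ((reassoc_of% h) _).symm

lemma clsMap_surjective : Function.Surjective (clsMap P I q) := by
  intro φ
  obtain ⟨g, hg⟩ := (CochainComplex.IsKInjective.Qh_map_bijective
    ((HomotopyCategory.quotient _ _).obj ((CochainComplex.singleFunctor _ 0).obj P)) (I⟦q⟧)).2
      ((DerivedCategory.quotientCompQhIso _).hom.app _ ≫ φ ≫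
        (DerivedCategory.Q.commShiftIso q).inv.app I ≫
          (DerivedCategory.quotientCompQhIso _).inv.app (I⟦q⟧))
  obtain ⟨c, rfl⟩ := (CohomologyClass.toHom_bijective _ I q).2 g
  obtain ⟨z, rfl⟩ := c.mk_surjective
  refine ⟨z, ?_⟩
  rw [clsMap_eq, hg]
  simp
  erw [Iso.inv_hom_id_app_assoc]

lemma clsMap_eq_zero_iff (z : Cocycle ((CochainComplex.singleFunctor _ 0).obj P) I q) :
    clsMap P I q z = 0 ↔ z ∈ coboundaries _ I q := by
  rw [← CohomologyClass.toHom_mk_eq_zero_iff]
  constructor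
  · intro h
    refine (CochainComplex.IsKInjective.Qh_map_bijective _ (I⟦q⟧)).1 ?_
    rw [Functor.map_zero]
    rw [clsMap_eq, Preadditive.IsIso.comp_left_eq_zero, Preadditive.IsIso.comp_right_eq_zero] at h
    exact h
  · intro h
    rw [clsMap_eq, h, Functor.map_zero, zero_comp, comp_zero]

variable {I}

lemma clsMap_postcomp {I' : CochainComplex (A) ℤ} [I'.IsKInjective] (g : I ⟶ I')
    (z : Cocycle ((CochainComplex.singleFunctor _ 0).obj P) I q) :
    clsMap P I' q (z.postcomp g) = clsMap P I q z ≫ (DerivedCategory.Q.map g)⟦q⟧' := by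
  simp only [clsMap, AddMonoidHom.mk'_apply, Cocycle.equivHomShift_symm_postcomp, Functor.map_comp, Category.assoc]
  congr 1
  exact (DerivedCategory.Q.commShiftIso q).hom.naturality g

variable (I)

/-- The class of a section killed by the differential. -/
noncomputable def secCls (φ : P ⟶ I.X q) (hφ : φ ≫ I.d q (q + 1) = 0) :
    (DerivedCategory.singleFunctor _ 0).obj P ⟶ (DerivedCategory.Q.obj I)⟦q⟧ :=
  clsMap P I q (Cocycle.fromSingleMk φ (zero_add q) (q + 1) rfl hφ)

lemma secCls_surjective (ξ : (DerivedCategory.singleFunctor _ 0).obj P ⟶ (DerivedCategory.Q.obj I)⟦q⟧) :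
    ∃ (φ : P ⟶ I.X q) (hφ : φ ≫ I.d q (q + 1) = 0), secCls P I q φ hφ = ξ := by
  obtain ⟨z, rfl⟩ := clsMap_surjective P I q ξ
  obtain ⟨f, hf, rfl⟩ := Cocycle.fromSingleMk_surjective z q (zero_add q) (q + 1) rfl
  exact ⟨f, hf, rfl⟩

lemma secCls_eq_zero_iff (φ : P ⟶ I.X q) (hφ : φ ≫ I.d q (q + 1) = 0) :
    secCls P I q φ hφ = 0 ↔ ∃ g, g ≫ I.d (q - 1) q = φ :=
  (clsMap_eq_zero_iff P I q _).trans
    (Cocycle.fromSingleMk_mem_coboundaries_iff _ (zero_add q) (q + 1) rfl _ (q - 1) (by simp))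

variable {I}

lemma secCls_postcomp {I' : CochainComplex (A) ℤ} [I'.IsKInjective] (g : I ⟶ I')
    (φ : P ⟶ I.X q) (hφ : φ ≫ I.d q (q + 1) = 0) :
    secCls P I q φ hφ ≫ (DerivedCategory.Q.map g)⟦q⟧' =
      secCls P I' q (φ ≫ g.f q) (by rw [Category.assoc, g.comm, reassoc_of% hφ, zero_comp]) := by
  refine (clsMap_postcomp P q g _).symm.trans (congrArg (clsMap P I' q) ?_)
  rw [Cocycle.fromSingleMk_postcomp]

lemma secCls_sub (φ ψ : P ⟶ I.X q) (hφ : φ ≫ I.d q (q + 1) = 0) (hψ : ψ ≫ I.d q (q + 1) = 0) :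
    secCls P I q (φ - ψ) (by rw [Preadditive.sub_comp, hφ, hψ, sub_zero]) = secCls P I q φ hφ - secCls P I q ψ hψ := by
  refine Eq.trans (congrArg (clsMap P I q) ?_) (map_sub (clsMap P I q) _ _)
  exact Subtype.ext (Cochain.fromSingleMk_sub φ ψ (zero_add q))

end Classes

section Bij

variable {I : CochainComplex (ModSite.Mod O) ℤ} [I.IsKInjective] (U : C) (q : ℤ)

/-- Bijectivity in the derived category gives bijectivity on cohomology of sections. -/
theorem secInj_secSurj_of_bijective {I' : CochainComplex (ModSite.Mod O) ℤ} [I'.IsKInjective] (g : I ⟶ I')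
    (h : Function.Bijective (fun x : (DerivedCategory.singleFunctor _ 0).obj (freeAt O U) ⟶ (DerivedCategory.Q.obj I)⟦q⟧ =>
      x ≫ (DerivedCategory.Q.map g)⟦q⟧')) :
    SecInj (((SheafOfModules.toSheaf (ModSite.ringSh O)).mapHomologicalComplex (ComplexShape.up ℤ)).map g) q U ∧
      SecSurj (((SheafOfModules.toSheaf (ModSite.ringSh O)).mapHomologicalComplex (ComplexShape.up ℤ)).map g) q U := by
  refine ⟨fun z hz y' hy' => ?_, fun z' hz' => ?_⟩
  · obtain ⟨φ, rfl⟩ := (freeAtEquiv U (I.X q)).surjective z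
    obtain ⟨ψ, rfl⟩ := (freeAtEquiv U (I'.X (q - 1))).surjective y'
    have hφ : φ ≫ I.d q (q + 1) = 0 := (freeAtEquiv U _).injective (by
      rw [freeAtEquiv_comp, map_zero]; exact hz)
    have hψ : ψ ≫ I'.d (q - 1) q = φ ≫ g.f q := (freeAtEquiv U _).injective (by
      rw [freeAtEquiv_comp, freeAtEquiv_comp]; exact hy')
    have h0 : secCls (freeAt O U) I q φ hφ = 0 := h.1 (by
      show secCls (freeAt O U) I q φ hφ ≫ _ = 0 ≫ _
      exact ((secCls_postcomp (freeAt O U) q g φ hφ).trans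
        ((secCls_eq_zero_iff (freeAt O U) I' q _ _).2 ⟨ψ, hψ⟩)).trans zero_comp.symm)
    obtain ⟨χ, hχ⟩ := (secCls_eq_zero_iff (freeAt O U) I q φ hφ).1 h0
    exact ⟨freeAtEquiv U _ χ, (freeAtEquiv_comp U _ _).symm.trans (congrArg _ hχ)⟩
  · obtain ⟨φ', rfl⟩ := (freeAtEquiv U (I'.X q)).surjective z'
    have hφ' : φ' ≫ I'.d q (q + 1) = 0 := (freeAtEquiv U _).injective (by
      rw [freeAtEquiv_comp, map_zero]; exact hz')
    obtain ⟨ξ, hξ⟩ := h.2 (secCls (freeAt O U) I' q φ' hφ')
    obtain ⟨φ, hφ, rfl⟩ := secCls_surjective (freeAt O U) I q ξ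
    simp only [secCls_postcomp] at hξ
    rw [← sub_eq_zero, ← secCls_sub, secCls_eq_zero_iff] at hξ
    obtain ⟨χ, hχ⟩ := hξ
    refine ⟨freeAtEquiv U _ φ, freeAtEquiv U _ χ, ?_, ?_⟩
    · exact (freeAtEquiv_comp U _ _).symm.trans ((congrArg _ hφ).trans (map_zero _))
    · show freeAtEquiv U _ φ ≫ (SheafOfModules.toSheaf _).map (g.f q) - _ =
        freeAtEquiv U _ χ ≫ (SheafOfModules.toSheaf _).map (I'.d (q - 1) q)
      rw [← freeAtEquiv_comp, ← freeAtEquiv_comp, hχ, map_sub]

end Bij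

end Groth.Agent.SiteCmpC
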