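import Groth.Agent.SiteCmpC.PushUnit
import Groth.Agent.SiteCmpC.ModSec
import Groth.Agent.H9Misc.RpushLeftAdj

/-! Morphisms from free modules into derived direct images. -/

set_option autoImplicit false

universe u

open CategoryTheory CategoryTheory.Limits Opposite DerivedCategory

attribute [local instance] HasDerivedCategory.standard

namespace Groth.Agent.SiteCmpC

open Groth.Agent.SiteBase Groth.Agent.H9Misc

section Gen

variable {A : Type (u + 1)} [Category.{u} A] [Abelian A] [IsGrothendieckAbelian.{u} A]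
  {B : Type (u + 1)} [Category.{u} B] [Abelian B] [IsGrothendieckAbelian.{u} B]
  {F : A ⥤ B} {G : B ⥤ A} (adj : F ⊣ G) [F.Additive] [G.Additive]
  [(G.mapHomotopyCategory (ComplexShape.up ℤ) ⋙ Qh).HasRightDerivedFunctor
      (HomotopyCategory.quasiIso B (ComplexShape.up ℤ))]
  (hgood : ∀ M : A, ∃ (P : A) (π : P ⟶ M), LeftAdjExists.Good G P ∧ Epi π)

include adj hgood in
/-- Morphisms from a good object into the derived functor. -/
theorem exists_homEquiv (P : A) (hP : LeftAdjExists.Good G P) {P' : B} (e : F.obj P ≅ P') :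
    ∃ Φ : ∀ M : DerivedCategory B, ((singleFunctor B 0).obj P' ⟶ M) ≃ ((singleFunctor A 0).obj P ⟶ (RD G).obj M),
      ∀ (M N : DerivedCategory B) (a : M ⟶ N) (x : (singleFunctor B 0).obj P' ⟶ M),
        Φ N (x ≫ a) = Φ M x ≫ (RD G).map a := by
  have := TriCat.qh_isLeftAdjoint_of_exists_resolution (A := B) fun L => by
    obtain ⟨I, f, hI, hf, -, -⟩ := TriCat.exists_kInjective_resolution' L
    exact ⟨I, f, hI, hf⟩
  let adjQ := Adjunction.ofIsLeftAdjoint (Qh (C := B))
  let RB := (Qh (C := B)).rightAdjoint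
  let a' := (SerreDerived.adjHtpy (ComplexShape.up ℤ) adj).comp adjQ
  let W := HomotopyCategory.quasiIso B (ComplexShape.up ℤ)
  let F₀ := G.mapHomotopyCategory (ComplexShape.up ℤ) ⋙ Qh (C := A)
  have := TriCat.isRightDerivedFunctor_of_adjunction adjQ W F₀
  let eR : LeftAdjExists.RG G RB ≅ RD G :=
    Functor.rightDerivedUnique (LeftAdjExists.RG G RB) (F₀.totalRightDerived Qh W)
      (Functor.whiskerRight adjQ.unit F₀ : F₀ ⟶ Qh ⋙ LeftAdjExists.RG G RB) (F₀.totalRightDerivedUnit Qh W) W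
  let P0 := (CochainComplex.singleFunctor A 0).obj P
  have hle : P0.IsStrictlyLE 0 := inferInstance
  have hPg : ∀ n, LeftAdjExists.Good G (P0.X n) := fun n => by
    by_cases hn : n = 0
    · subst hn
      intro E hE k
      have := hP E hE k
      let i : P0.X 0 ≅ P := HomologicalComplex.singleObjXSelf (ComplexShape.up ℤ) 0 P
      refine ⟨fun x y => ?_⟩
      rw [← Abelian.Ext.mk₀_id_comp x, ← Abelian.Ext.mk₀_id_comp y, ← i.hom_inv_id, ← Abelian.Ext.mk₀_comp_mk₀_assoc,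
        ← Abelian.Ext.mk₀_comp_mk₀_assoc, Subsingleton.elim ((Abelian.Ext.mk₀ i.inv).comp x (zero_add _))]
    · exact LeftAdjExists.good_of_isZero (HomologicalComplex.isZero_single_obj_X _ _ _ _ hn)
  let qP := (HomotopyCategory.quotient A (ComplexShape.up ℤ)).obj P0
  let eA : (singleFunctor A 0).obj P ≅ Qh.obj qP := ((quotientCompQhIso A).app P0).symm
  let eB : (singleFunctor B 0).obj P' ≅ Qh.obj ((F.mapHomotopyCategory (ComplexShape.up ℤ)).obj qP) :=
    (singleFunctor B 0).mapIso e.symm ≪≫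
      Q.mapIso ((HomologicalComplex.singleMapHomologicalComplex F (ComplexShape.up ℤ) 0).app P).symm ≪≫
      ((quotientCompQhIso B).app _).symm ≪≫ Qh.mapIso ((F.mapHomotopyCategoryFactors _).app P0).symm
  let Φ : ∀ M, ((singleFunctor B 0).obj P' ⟶ M) ≃ ((singleFunctor A 0).obj P ⟶ (RD G).obj M) := fun M =>
    eB.homFromEquiv.trans ((a'.homEquiv qP M).trans
      ((Equiv.ofBijective _ (LeftAdjExists.Qh_map_bijective adj hgood adjQ P0 0 hPg M)).trans
        ((eR.app M).homToEquiv.trans eA.homFromEquiv.symm)))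
  refine ⟨Φ, fun M N a x => ?_⟩
  show eA.hom ≫ (Qh.map (a'.homEquiv qP N (eB.inv ≫ x ≫ a)) ≫ eR.hom.app N) =
    (eA.hom ≫ (Qh.map (a'.homEquiv qP M (eB.inv ≫ x)) ≫ eR.hom.app M)) ≫ (RD G).map a
  rw [← Category.assoc eB.inv, a'.homEquiv_naturality_right, Functor.map_comp]
  simp only [Category.assoc]
  exact congrArg (fun t => eA.hom ≫ Qh.map (a'.homEquiv qP M (eB.inv ≫ x)) ≫ t) (eR.hom.naturality a)

end Gen

variable {C D : Type u} [SmallCategory C] [SmallCategory D]
  {J : GrothendieckTopology C} {K : GrothendieckTopology D}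
  {O_C : Sheaf J CommRingCat.{u}} {O_D : Sheaf K CommRingCat.{u}} (f : ModSite.RMor O_C O_D)

lemma good_freeAt (V : D) : LeftAdjExists.Good f.push (freeAt O_D V) := fun E hE n => by
  obtain ⟨e⟩ := nonempty_ext_freeMod_addEquiv (R := ModSite.ringSh O_D) (hSheaf K V) (f.push.obj E) (n + 1)
  have := RpushLeftAdj.isTotallyAcyclic_push f E (hSheaf K V) n
  exact e.toEquiv.subsingleton

/-- Sections of the direct image. -/
noncomputable def pushSecEquiv (V : D) (M : ModSite.Mod O_C) :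
    (freeAt O_D V ⟶ f.push.obj M) ≃ (freeAt O_C (f.fn.obj V) ⟶ M) :=
  ((freeAtEquiv V (f.push.obj M)).trans ((secEquiv K V (ModSite.toAb (f.push.obj M))).trans
    ((secEquiv J (f.fn.obj V) (ModSite.toAb M)).symm.trans (freeAtEquiv (f.fn.obj V) M).symm))).toEquiv

lemma pushSecEquiv_comp (V : D) {M N : ModSite.Mod O_C} (φ : freeAt O_D V ⟶ f.push.obj M) (g : M ⟶ N) :
    pushSecEquiv f V N (φ ≫ f.push.map g) = pushSecEquiv f V M φ ≫ g := by
  show (freeAtEquiv (f.fn.obj V) N).symm ((secEquiv J (f.fn.obj V) (ModSite.toAb N)).symm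
    (secEquiv K V _ (freeAtEquiv V _ (φ ≫ f.push.map g)))) = _
  rw [AddEquiv.symm_apply_eq, freeAtEquiv_comp, secEquiv_comp, freeAtEquiv_comp]
  rw [show pushSecEquiv f V M φ = (freeAtEquiv (f.fn.obj V) M).symm ((secEquiv J (f.fn.obj V) (ModSite.toAb M)).symm
    (secEquiv K V _ (freeAtEquiv V _ φ))) from rfl, AddEquiv.apply_symm_apply, secEquiv_symm_comp]
  rfl

theorem nonempty_pull_freeAt_iso (V : D) : Nonempty (f.pull.obj (freeAt O_D V) ≅ freeAt O_C (f.fn.obj V)) := by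
  let Φ : ∀ M : ModSite.Mod O_C, (f.pull.obj (freeAt O_D V) ⟶ M) ≃ (freeAt O_C (f.fn.obj V) ⟶ M) := fun M =>
    (f.adj.homEquiv _ M).trans (pushSecEquiv f V M)
  have hΦ : ∀ {M N : ModSite.Mod O_C} (φ : f.pull.obj (freeAt O_D V) ⟶ M) (g : M ⟶ N), Φ N (φ ≫ g) = Φ M φ ≫ g :=
    fun φ g => (congrArg (pushSecEquiv f V _) (f.adj.homEquiv_naturality_right φ g)).trans (pushSecEquiv_comp f V _ g)
  have hsymm : ∀ {M N : ModSite.Mod O_C} (φ : freeAt O_C (f.fn.obj V) ⟶ M) (g : M ⟶ N),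
      (Φ N).symm (φ ≫ g) = (Φ M).symm φ ≫ g := fun φ g => by
    rw [Equiv.symm_apply_eq, hΦ, Equiv.apply_symm_apply]
  exact ⟨{ hom := (Φ _).symm (𝟙 _)
           inv := Φ _ (𝟙 _)
           hom_inv_id := by rw [← hsymm, Category.id_comp, Equiv.symm_apply_apply]
           inv_hom_id := by rw [← hΦ, Category.id_comp, Equiv.apply_symm_apply] }⟩

/-- `Hom(freeAt (u V), M) ≃ Hom(freeAt V, Rf_* M)`. -/
theorem exists_homEquiv_push [SiteCmp.HasRpushD f] (V : D) :
    ∃ Φ : ∀ M : DerivedCategory (ModSite.Mod O_C),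
        ((singleFunctor _ 0).obj (freeAt O_C (f.fn.obj V)) ⟶ M) ≃
          ((singleFunctor _ 0).obj (freeAt O_D V) ⟶ (SiteCmp.RpushD f).obj M),
      ∀ (M N : DerivedCategory (ModSite.Mod O_C)) (a : M ⟶ N) (x : (singleFunctor _ 0).obj (freeAt O_C (f.fn.obj V)) ⟶ M),
        Φ N (x ≫ a) = Φ M x ≫ (SiteCmp.RpushD f).map a :=
  exists_homEquiv f.adj (RpushLeftAdj.exists_good f) (freeAt O_D V) (good_freeAt f V)
    (nonempty_pull_freeAt_iso f V).some

end Groth.Agent.SiteCmpC
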