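import Groth.Agent.SiteCmpC.ModTrunc
import Groth.Agent.SiteCmpC.PushHom
import Groth.Agent.SiteCmpC.CohIn

/-! Derived direct images and truncations on sites of locally bounded cohomological dimension. -/

set_option autoImplicit false

universe u

open CategoryTheory CategoryTheory.Limits CategoryTheory.Pretriangulated Opposite DerivedCategory

attribute [local instance] HasDerivedCategory.standard

namespace Groth.Agent.SiteCmpC

open Groth.Agent.SiteBase Groth.Agent.H9Misc

variable {C D : Type u} [SmallCategory C] [SmallCategory D]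
  {J : GrothendieckTopology C} {K : GrothendieckTopology D}
  {O_C : Sheaf J CommRingCat.{u}} {O_D : Sheaf K CommRingCat.{u}} (f : ModSite.RMor O_C O_D)
  [SiteCmp.HasRpushD f]

/-- Bounded objects of cohomology: `RpushD` in degree `q` of a module in degree `a`. -/
lemma isGE_RpushD (X : DerivedCategory (ModSite.Mod O_C)) (n : ℤ) [X.IsGE n] :
    DerivedCategory.IsGE ((SiteCmp.RpushD f).obj X) n :=
  isGE_RD f.push X n

lemma bijective_shift_push {E E' : DerivedCategory (ModSite.Mod O_C)} (g : E ⟶ E') (j : ℤ) (Y : D)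
    (h : PostBij g j (f.fn.obj Y)) : PostBij ((SiteCmp.RpushD f).map g) j Y := by
  obtain ⟨_, _⟩ := exists_isTriangulated_RpushD f
  obtain ⟨Φ, hΦ⟩ := exists_homEquiv_push f Y
  let c := (SiteCmp.RpushD f).commShiftIso j
  have w : ∀ x, (Φ _ x ≫ c.hom.app E) ≫ ((SiteCmp.RpushD f).map g)⟦j⟧' = Φ _ (x ≫ g⟦j⟧') ≫ c.hom.app E' := fun x => by
    rw [hΦ, Category.assoc, Category.assoc]
    exact congrArg (_ ≫ ·) (c.hom.naturality g).symm
  refine ⟨fun x y hxy => ?_, fun z => ?_⟩
  · obtain ⟨x', hx'⟩ := (Φ _).surjective (x ≫ c.inv.app E)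
    obtain ⟨y', hy'⟩ := (Φ _).surjective (y ≫ c.inv.app E)
    have hx : x = Φ _ x' ≫ c.hom.app E := by
      rw [hx', Category.assoc, Iso.inv_hom_id_app]; exact (Category.comp_id x).symm
    have hy : y = Φ _ y' ≫ c.hom.app E := by
      rw [hy', Category.assoc, Iso.inv_hom_id_app]; exact (Category.comp_id y).symm
    simp only [hx, hy, w, cancel_mono] at hxy
    rw [hx, hy, h.1 ((Φ _).injective hxy)]
  · obtain ⟨z', hz'⟩ := (Φ _).surjective (z ≫ c.inv.app E')
    obtain ⟨x, hx⟩ := h.2 z'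
    refine ⟨Φ _ x ≫ c.hom.app E, (w x).trans ?_⟩
    dsimp only at hx
    rw [hx, hz', Category.assoc, Iso.inv_hom_id_app]; exact Category.comp_id z

/-- `R^p f_* F` as cohomology of `Rf_*` of `F` placed in degree `a`. -/
lemma nonempty_homology_RpushD_single [HasInjectiveResolutions (ModSite.Mod O_C)] (F : ModSite.Mod O_C)
    (a q : ℤ) (p : ℕ) (h : a + p = q) :
    Nonempty ((homologyFunctor _ q).obj ((SiteCmp.RpushD f).obj ((singleFunctor _ a).obj F)) ≅ (f.Rpush p).obj F) := by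
  obtain ⟨_, _⟩ := exists_isTriangulated_RpushD f
  obtain ⟨e⟩ := nonempty_homology_RD_single f.push F p
  let e' : (homologyFunctor (ModSite.Mod O_D) (p : ℤ)).obj ((SiteCmp.RpushD f).obj ((singleFunctor _ 0).obj F)) ≅
      (f.Rpush p).obj F := e
  refine ⟨?_ ≪≫ e'⟩
  exact (homologyFunctor (ModSite.Mod O_D) q).mapIso ((SiteCmp.RpushD f).mapIso
      (((singleFunctors (ModSite.Mod O_C)).shiftIso (-a) a 0 (by omega)).app F).symm ≪≫
      ((SiteCmp.RpushD f).commShiftIso (-a)).app _) ≪≫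
    ((homologyFunctor (ModSite.Mod O_D) 0).shiftIso (-a) q p (by omega)).app _

variable {A : ObjectProperty (ModSite.Mod O_C)} [WSerre.IsWeakSerre A]

lemma isZero_homology_RpushD_heart [HasInjectiveResolutions (ModSite.Mod O_C)] {N : ℤ}
    (h3 : ∀ F : ModSite.Mod O_C, A F → ∀ p : ℕ, N < (p : ℤ) → IsZero ((f.Rpush p).obj F))
    (F : DerivedCategory (ModSite.Mod O_C)) (a q : ℤ) [F.IsGE a] [F.IsLE a]
    (hF : A ((homologyFunctor _ a).obj F)) (hq : a + N < q) :
    IsZero ((homologyFunctor _ q).obj ((SiteCmp.RpushD f).obj F)) := by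
  rcases lt_or_ge q a with h | h
  · haveI := isGE_RpushD f F a
    exact isZero_of_isGE _ a q h
  · obtain ⟨G, ⟨e⟩⟩ := exists_iso_singleFunctor_obj_of_isGE_of_isLE F a
    have hG : A G := A.prop_of_iso ((homologyFunctor _ a).mapIso e ≪≫
      (singleFunctorCompHomologyFunctorIso _ a).app G) hF
    obtain ⟨p, hp⟩ : ∃ p : ℕ, a + p = q := ⟨(q - a).toNat, by omega⟩
    obtain ⟨e'⟩ := nonempty_homology_RpushD_single f G a q p hp
    exact (h3 G hG p (by omega)).of_iso ((homologyFunctor _ q).mapIso ((SiteCmp.RpushD f).mapIso e) ≪≫ e')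

lemma isIso_homology_RpushD_truncTowerMap [HasInjectiveResolutions (ModSite.Mod O_C)] {N : ℤ}
    (h3 : ∀ F : ModSite.Mod O_C, A F → ∀ p : ℕ, N < (p : ℤ) → IsZero ((f.Rpush p).obj F))
    {X : DerivedCategory (ModSite.Mod O_C)} (hX : WSerre.cohIn A X) (n : ℕ) (j : ℤ) (hj : N - n ≤ j) :
    IsIso ((homologyFunctor _ j).map ((SiteCmp.RpushD f).map (CohCx.truncTowerMap X n))) := by
  obtain ⟨_, _⟩ := exists_isTriangulated_RpushD f
  obtain ⟨F, a, c, hT, _, _, ⟨e⟩⟩ := exists_truncFibre X (-((n + 1 : ℕ) : ℤ)) (-(n : ℤ)) (by omega)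
  have hF := A.prop_of_iso e.symm (hX _)
  have hT' := (SiteCmp.RpushD f).map_distinguished _ hT
  have hm : Mono ((homologyFunctor _ j).map ((SiteCmp.RpushD f).map (CohCx.truncTowerMap X n))) :=
    (HomologySequence.mono_homologyMap_mor₂_iff _ hT' j).2
      ((isZero_homology_RpushD_heart f h3 F (-((n + 1 : ℕ) : ℤ)) j hF (by omega)).eq_of_src _ _)
  have he : Epi ((homologyFunctor _ j).map ((SiteCmp.RpushD f).map (CohCx.truncTowerMap X n))) :=
    (HomologySequence.epi_homologyMap_mor₂_iff _ hT' j (j + 1) rfl).2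
      ((isZero_homology_RpushD_heart f h3 F (-((n + 1 : ℕ) : ℤ)) (j + 1) hF (by omega)).eq_of_tgt _ _)
  exact isIso_of_mono_of_epi _

variable {B : Set C} {B' : Set D}

theorem isIso_homology_RpushD_toTruncTower [HasInjectiveResolutions (ModSite.Mod O_C)] {N : ℤ}
    (h3 : ∀ F : ModSite.Mod O_C, A F → ∀ p : ℕ, N < (p : ℤ) → IsZero ((f.Rpush p).obj F))
    {X : DerivedCategory (ModSite.Mod O_C)} (hX : WSerre.cohIn A X) (hB : LocBdd X B)
    (hB' : DLim.IsCoveredBy K B')
    (hd : ∀ V ∈ B', ∃ d : ℕ, Refines K (fun Y => ∀ q : ℤ,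
      VanishAbove (freeAt O_C (f.fn.obj Y)) ((homologyFunctor _ q).obj X) d) V)
    (n : ℕ) (j : ℤ) (hj : N - n ≤ j) :
    IsIso ((homologyFunctor _ j).map ((SiteCmp.RpushD f).map (CohCx.toTruncTower X n))) := by
  let ψ : ∀ k : ℕ, (homologyFunctor _ j).obj ((SiteCmp.RpushD f).obj X) ⟶
      (homologyFunctor _ j).obj ((SiteCmp.RpushD f).obj (CohCx.truncTower X k)) := fun k =>
    (homologyFunctor _ j).map ((SiteCmp.RpushD f).map (CohCx.toTruncTower X k))
  have htr : ∀ k : ℕ, ∃ (u : (homologyFunctor _ j).obj ((SiteCmp.RpushD f).obj (CohCx.truncTower X (n + k))) ⟶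
      (homologyFunctor _ j).obj ((SiteCmp.RpushD f).obj (CohCx.truncTower X n))), IsIso u ∧ ψ (n + k) ≫ u = ψ n := by
    intro k
    induction k with
    | zero => exact ⟨𝟙 _, inferInstance, Category.comp_id _⟩
    | succ k ih =>
      obtain ⟨u, hu, hu'⟩ := ih
      have := isIso_homology_RpushD_truncTowerMap f h3 hX (n + k) j (by omega)
      refine ⟨(homologyFunctor _ j).map ((SiteCmp.RpushD f).map (CohCx.truncTowerMap X (n + k))) ≫ u,
        IsIso.comp_isIso' this hu, ?_⟩
      rw [← hu', ← Category.assoc]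
      congr 1
      show (homologyFunctor _ j).map _ ≫ _ = (homologyFunctor _ j).map _
      rw [← Functor.map_comp, ← Functor.map_comp]
      exact congrArg (fun t => (homologyFunctor _ j).map ((SiteCmp.RpushD f).map t))
        (TStructure.t.π_natTransTruncGEOfLE_app _ _ (by omega) X)
  have key : ∀ V ∈ B', ∃ k : ℕ, Refines K (PostBij ((SiteCmp.RpushD f).map (CohCx.toTruncTower X (n + k))) j) V :=
    fun V hV => by
    obtain ⟨d, hd⟩ := hd V hV
    refine ⟨((d : ℤ) - j).toNat, fun T hT => ?_⟩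
    obtain ⟨ι, Y, q, hT', hcov, hP⟩ := hd T hT
    exact ⟨ι, Y, q, hT', hcov, fun i => bijective_shift_push f _ j (Y i)
      (postBij_toTruncTower hB (hP i) j _ (by omega))⟩
  refine isIso_of_isIso_toAb _ (mono_of_cover _ hB' fun V hV s hs => ?_) (epi_of_cover _ hB' fun V hV t => ?_)
  · obtain ⟨k, hk⟩ := key V hV
    obtain ⟨u, hu, hu'⟩ := htr k
    refine toAb_H_injective _ j hk s ?_
    change s ≫ (toAbF O_D).map (ψ n) = 0 at hs
    rw [← hu', Functor.map_comp, ← Category.assoc] at hs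
    exact (cancel_mono ((toAbF O_D).map u)).1 (hs.trans zero_comp.symm)
  · obtain ⟨k, hk⟩ := key V hV
    obtain ⟨u, hu, hu'⟩ := htr k
    obtain ⟨R, hR, hs⟩ := toAb_H_locallySurjective _ j hk (t ≫ inv ((toAbF O_D).map u))
    refine ⟨R, hR, fun W g hg => ?_⟩
    obtain ⟨s, hs⟩ := hs W g hg
    refine ⟨s, ?_⟩
    show s ≫ (toAbF O_D).map (ψ n) = _
    rw [← hu', Functor.map_comp, ← Category.assoc]
    refine (congrArg (· ≫ (toAbF O_D).map u) hs).trans ?_
    simp

/-- `Rf_*` sends cohomology in `A` to cohomology in `A'`, for bounded below objects. -/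
theorem cohIn_RpushD_of_isGE [HasInjectiveResolutions (ModSite.Mod O_C)]
    (A' : ObjectProperty (ModSite.Mod O_D)) [WSerre.IsWeakSerre A']
    (h3 : ∀ F : ModSite.Mod O_C, A F → ∀ p : ℕ, A' ((f.Rpush p).obj F))
    {X : DerivedCategory (ModSite.Mod O_C)} (hX : WSerre.cohIn A X) (a : ℤ) [X.IsGE a] :
    WSerre.cohIn A' ((SiteCmp.RpushD f).obj X) := by
  obtain ⟨_, _⟩ := exists_isTriangulated_RpushD f
  intro i
  let T := (TStructure.t.triangleLTGE (i + 2)).obj X
  have hT : T ∈ distTriang _ := TStructure.t.triangleLTGE_distinguished (i + 2) X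
  have := KFlatLib.isGE_truncLT X a (i + 2)
  have : TStructure.t.IsLE ((TStructure.t.truncLT (i + 2)).obj X) (i + 2 - 1) := inferInstance
  have : DerivedCategory.IsLE ((TStructure.t.truncLT (i + 2)).obj X) (i + 1) :=
    TStructure.t.isLE_of_le ((TStructure.t.truncLT (i + 2)).obj X) (i + 2 - 1) (i + 1) (by omega)
  have h1 : WSerre.cohIn A' ((SiteCmp.RpushD f).obj T.obj₁) :=
    bounded_induction A (fun Y => WSerre.cohIn A' ((SiteCmp.RpushD f).obj Y))
      (fun e h => cohIn_of_iso A' ((SiteCmp.RpushD f).mapIso e) h)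
      (fun k M hM q => by
        rcases lt_or_ge q k with h | h
        · haveI := isGE_RpushD f ((singleFunctor _ k).obj M) k
          exact A'.prop_of_isZero (isZero_of_isGE _ k q h)
        · obtain ⟨e⟩ := nonempty_homology_RpushD_single f M k q (q - k).toNat (by omega)
          exact A'.prop_of_iso e.symm (h3 M hM _))
      (fun S hS _ _ a b => cohIn_obj₂ A' ((SiteCmp.RpushD f).map_distinguished _ hS) a b)
      ((TStructure.t.truncLT (i + 2)).obj X) a (i + 1) (cohIn_truncLT A hX _)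
  haveI : DerivedCategory.IsGE T.obj₃ (i + 2) :=
    inferInstanceAs (TStructure.t.IsGE ((TStructure.t.truncGE (i + 2)).obj X) (i + 2))
  haveI := isGE_RpushD f T.obj₃ (i + 2)
  have hT' := (SiteCmp.RpushD f).map_distinguished _ hT
  have hm : Mono ((homologyFunctor _ i).map ((SiteCmp.RpushD f).mapTriangle.obj T).mor₁) :=
    (HomologySequence.mono_homologyMap_mor₁_iff _ hT' (i - 1) i (by omega)).2
      ((isZero_of_isGE ((SiteCmp.RpushD f).obj T.obj₃) (i + 2) (i - 1) (by omega)).eq_of_src _ _)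
  have he : Epi ((homologyFunctor _ i).map ((SiteCmp.RpushD f).mapTriangle.obj T).mor₁) :=
    (HomologySequence.epi_homologyMap_mor₁_iff _ hT' i).2
      ((isZero_of_isGE ((SiteCmp.RpushD f).obj T.obj₃) (i + 2) i (by omega)).eq_of_tgt _ _)
  exact A'.prop_of_iso (@asIso _ _ _ _ ((homologyFunctor _ i).map ((SiteCmp.RpushD f).mapTriangle.obj T).mor₁)
    (@isIso_of_mono_of_epi _ _ _ _ _ _ hm he)) (h1 i)

end Groth.Agent.SiteCmpC
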