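import Groth.Agent.SiteCmpC.ModSec
import Groth.Agent.QCoh.ToSheaf
import Groth.Agent.KFlatLib.PsiC
import Groth.Agent.SiteBase.ModGroth
import Groth.Agent.TriCat.KInjRes
import Groth.Agent.TriCat.DerivedProducts

/-! Truncations of complexes of modules on sites of locally bounded cohomological dimension. -/

set_option autoImplicit false

universe u

open CategoryTheory CategoryTheory.Limits Opposite DerivedCategory

attribute [local instance] HasDerivedCategory.standard

namespace Groth.Agent.SiteCmpC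

open Groth.Agent.SiteBase

section Abstract

variable {A : Type (u + 1)} [Category.{u} A] [Abelian A] [IsGrothendieckAbelian.{u} A]

lemma exists_kinj_obj (E : DerivedCategory A) :
    ∃ (I : CochainComplex A ℤ), I.IsKInjective ∧ Nonempty (Q.obj I ≅ E) := by
  have := Localization.essSurj (Q (C := A)) (HomologicalComplex.quasiIso A (ComplexShape.up ℤ))
  obtain ⟨I, f, hI, hf, -, -⟩ := TriCat.exists_kInjective_resolution' ((Q (C := A)).objPreimage E)
  exact ⟨I, hI, ⟨(asIso (Q.map f)).symm ≪≫ Q.objObjPreimageIso E⟩⟩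

omit [IsGrothendieckAbelian.{u} A] in
lemma exists_map_of_kinj (I I' : CochainComplex A ℤ) [I'.IsKInjective] (φ : Q.obj I ⟶ Q.obj I') :
    ∃ g : I ⟶ I', Q.map g = φ := by
  obtain ⟨g, hg⟩ := (CochainComplex.IsKInjective.Qh_map_bijective ((HomotopyCategory.quotient A _).obj I) I').2
    ((quotientCompQhIso A).hom.app I ≫ φ ≫ (quotientCompQhIso A).inv.app I')
  obtain ⟨g, rfl⟩ := (HomotopyCategory.quotient A _).map_surjective g
  refine ⟨g, ?_⟩
  rw [← cancel_epi ((quotientCompQhIso A).hom.app I)]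
  refine ((quotientCompQhIso A).hom.naturality g).symm.trans ?_
  refine (congrArg (· ≫ (quotientCompQhIso A).hom.app I') hg).trans ?_
  simp only [Category.assoc]
  exact congrArg (_ ≫ ·) ((congrArg (φ ≫ ·) ((quotientCompQhIso A).inv_hom_id_app I')).trans (Category.comp_id _))

omit [IsGrothendieckAbelian.{u} A] in
lemma postcomp_bij_conj {S X X' Y Y' : DerivedCategory A} (g : X ⟶ X') (h : Y ⟶ Y') (e : X ≅ Y) (e' : X' ≅ Y')
    (w : g ≫ e'.hom = e.hom ≫ h) (m : ℤ)
    (hb : Function.Bijective (fun x : S ⟶ Y⟦m⟧ => x ≫ h⟦m⟧')) :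
    Function.Bijective (fun x : S ⟶ X⟦m⟧ => x ≫ g⟦m⟧') := by
  have hg : g⟦m⟧' = e.hom⟦m⟧' ≫ h⟦m⟧' ≫ e'.inv⟦m⟧' := by
    rw [← Functor.map_comp, ← Functor.map_comp]
    congr 1
    rw [← Category.assoc, Iso.eq_comp_inv]
    exact w
  refine ⟨fun x y hxy => ?_, fun z => ?_⟩
  · simp only [hg, ← Category.assoc, cancel_mono] at hxy
    exact (cancel_mono (e.hom⟦m⟧')).1 (hb.1 hxy)
  · obtain ⟨x, hx⟩ := hb.2 (z ≫ e'.hom⟦m⟧')
    refine ⟨x ≫ e.inv⟦m⟧', ?_⟩
    simp only [hg, Category.assoc]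
    dsimp only at hx
    rw [← (shiftFunctor _ m).map_comp_assoc e.inv, Iso.inv_hom_id, CategoryTheory.Functor.map_id, Category.id_comp, reassoc_of% hx,
      ← Functor.map_comp, Iso.hom_inv_id, CategoryTheory.Functor.map_id, Category.comp_id]

end Abstract

variable {C : Type u} [SmallCategory C] {J : GrothendieckTopology C} {O : Sheaf J CommRingCat.{u}}

variable (O) in
/-- The underlying abelian sheaf of a module. -/
noncomputable abbrev toAbF : ModSite.Mod O ⥤ Sheaf J AddCommGrpCat.{u} :=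
  SheafOfModules.toSheaf (ModSite.ringSh O)

variable (O) in
/-- The underlying complex of abelian sheaves. -/
noncomputable abbrev toAbCx : CochainComplex (ModSite.Mod O) ℤ ⥤ CochainComplex (Sheaf J AddCommGrpCat.{u}) ℤ :=
  (toAbF O).mapHomologicalComplex (ComplexShape.up ℤ)

lemma isIso_of_isIso_toAb {M N : ModSite.Mod O} (g : M ⟶ N) (hm : Mono ((toAbF O).map g))
    (he : Epi ((toAbF O).map g)) : IsIso g :=
  have := (toAbF O).mono_of_mono_map hm
  have := (toAbF O).epi_of_epi_map he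
  isIso_of_mono_of_epi g

/-- Underlying sheaf of the homology. -/
noncomputable def toAbHIso (j : ℤ) :
    toAbCx O ⋙ HomologicalComplex.homologyFunctor (Sheaf J AddCommGrpCat.{u}) (ComplexShape.up ℤ) j ≅
      Q ⋙ homologyFunctor (ModSite.Mod O) j ⋙ toAbF O :=
  KFlatLib.mapCxHomologyIso (toAbF O) j ≪≫
    Functor.isoWhiskerRight (homologyFunctorFactors (ModSite.Mod O) j).symm (toAbF O) ≪≫
    Functor.associator _ _ _

/-- Postcomposition by `g` on morphisms out of `freeAt U` into the `j`th shift is bijective. -/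
def PostBij {E E' : DerivedCategory (ModSite.Mod O)} (g : E ⟶ E') (j : ℤ) (U : C) : Prop :=
  Function.Bijective (fun x : (singleFunctor _ 0).obj (freeAt O U) ⟶ E⟦j⟧ => x ≫ g⟦j⟧')

variable {E E' : DerivedCategory (ModSite.Mod O)} (g : E ⟶ E') (j : ℤ) {V : C}

lemma toAb_H_injective (h : Refines J (PostBij g j) V)
    (s : CohCx.freeSheaf J V ⟶ (toAbF O).obj ((homologyFunctor _ j).obj E))
    (hs : s ≫ (toAbF O).map ((homologyFunctor _ j).map g) = 0) : s = 0 := by
  obtain ⟨I, _, ⟨e⟩⟩ := exists_kinj_obj E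
  obtain ⟨I', _, ⟨e'⟩⟩ := exists_kinj_obj E'
  obtain ⟨g₀, hg₀⟩ := exists_map_of_kinj I I' (e.hom ≫ g ≫ e'.inv)
  have w : Q.map g₀ ≫ e'.hom = e.hom ≫ g := by simp [hg₀]
  let k : ((toAbCx O).obj I).homology j ≅ (toAbF O).obj ((homologyFunctor _ j).obj E) :=
    (toAbHIso j).app I ≪≫ (toAbF O).mapIso ((homologyFunctor _ j).mapIso e)
  let k' : ((toAbCx O).obj I').homology j ≅ (toAbF O).obj ((homologyFunctor _ j).obj E') :=
    (toAbHIso j).app I' ≪≫ (toAbF O).mapIso ((homologyFunctor _ j).mapIso e')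
  have hk : HomologicalComplex.homologyMap ((toAbCx O).map g₀) j ≫ k'.hom =
      k.hom ≫ (toAbF O).map ((homologyFunctor _ j).map g) := by
    simp only [k, k', Iso.trans_hom, Iso.app_hom, Functor.mapIso_hom]
    rw [Category.assoc, ← Functor.map_comp, ← Functor.map_comp, ← w, Functor.map_comp, Functor.map_comp]
    exact ((Category.assoc _ _ _).symm.trans (congrArg (· ≫ _) ((toAbHIso (O := O) j).hom.naturality g₀))).trans
      (Category.assoc _ _ _)
  rw [← cancel_mono k.inv, zero_comp]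
  refine homologyMap_app_injective ((toAbCx O).map g₀) j (fun T hT => ?_) _ ?_
  · obtain ⟨ι, Y, q, hT', hcov, hP⟩ := h T hT
    exact ⟨ι, Y, q, hT', hcov, fun i =>
      (secInj_secSurj_of_bijective (Y i) j g₀ (postcomp_bij_conj _ g e e' w j (hP i))).1⟩
  · rw [← cancel_mono k'.hom, zero_comp, Category.assoc, Category.assoc, hk, Iso.inv_hom_id_assoc, hs]

lemma toAb_H_locallySurjective (h : Refines J (PostBij g j) V)
    (t : CohCx.freeSheaf J V ⟶ (toAbF O).obj ((homologyFunctor _ j).obj E')) :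
    ∃ R ∈ J V, ∀ (W : C) (f : W ⟶ V), R f → ∃ s : CohCx.freeSheaf J W ⟶ (toAbF O).obj ((homologyFunctor _ j).obj E),
      s ≫ (toAbF O).map ((homologyFunctor _ j).map g) = CohCx.freeSheafMap J f ≫ t := by
  obtain ⟨I, _, ⟨e⟩⟩ := exists_kinj_obj E
  obtain ⟨I', _, ⟨e'⟩⟩ := exists_kinj_obj E'
  obtain ⟨g₀, hg₀⟩ := exists_map_of_kinj I I' (e.hom ≫ g ≫ e'.inv)
  have w : Q.map g₀ ≫ e'.hom = e.hom ≫ g := by simp [hg₀]
  let k : ((toAbCx O).obj I).homology j ≅ (toAbF O).obj ((homologyFunctor _ j).obj E) :=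
    (toAbHIso j).app I ≪≫ (toAbF O).mapIso ((homologyFunctor _ j).mapIso e)
  let k' : ((toAbCx O).obj I').homology j ≅ (toAbF O).obj ((homologyFunctor _ j).obj E') :=
    (toAbHIso j).app I' ≪≫ (toAbF O).mapIso ((homologyFunctor _ j).mapIso e')
  have hk : HomologicalComplex.homologyMap ((toAbCx O).map g₀) j ≫ k'.hom =
      k.hom ≫ (toAbF O).map ((homologyFunctor _ j).map g) := by
    simp only [k, k', Iso.trans_hom, Iso.app_hom, Functor.mapIso_hom]
    rw [Category.assoc, ← Functor.map_comp, ← Functor.map_comp, ← w, Functor.map_comp, Functor.map_comp]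
    exact ((Category.assoc _ _ _).symm.trans (congrArg (· ≫ _) ((toAbHIso (O := O) j).hom.naturality g₀))).trans
      (Category.assoc _ _ _)
  obtain ⟨R, hR, hs⟩ := exists_locally_preimage ((toAbCx O).map g₀) j (fun T hT => by
    obtain ⟨ι, Y, q, hT', hcov, hP⟩ := h T hT
    exact ⟨ι, Y, q, hT', hcov, fun i =>
      (secInj_secSurj_of_bijective (Y i) j g₀ (postcomp_bij_conj _ g e e' w j (hP i))).2⟩) (t ≫ k'.inv)
  refine ⟨R, hR, fun W f hf => ?_⟩
  obtain ⟨s, hs⟩ := hs W f hf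
  exact ⟨s ≫ k.hom, by rw [Category.assoc, ← hk, reassoc_of% hs, Iso.inv_hom_id, Category.comp_id]⟩

/-- Members of `B` cover everything and have cofinal coverings of bounded dimension for the cohomology of `E`. -/
def LocBdd (E : DerivedCategory (ModSite.Mod O)) (B : Set C) : Prop :=
  DLim.IsCoveredBy J B ∧ ∀ V ∈ B, ∃ d : ℕ,
    Refines J (fun Y => ∀ q : ℤ, VanishAbove (freeAt O Y) ((homologyFunctor _ q).obj E) d) V

theorem exists_isIso_rlim {B : Set C} (hB : LocBdd E B) [HasProduct (CohCx.truncTower E)] :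
    ∃ (L : DerivedCategory (ModSite.Mod O)) (a : ∀ n, L ⟶ CohCx.truncTower E n) (e : E ⟶ L),
      CohCx.IsRlimVia (CohCx.truncTower E) (CohCx.truncTowerMap E) L a ∧
      (∀ n, e ≫ a n = CohCx.toTruncTower E n) ∧ IsIso e := by
  let K := CohCx.truncTower E
  let t := CohCx.truncTowerMap E
  let d : ∏ᶜ K ⟶ ∏ᶜ K := Pi.lift fun n => Pi.π K n - Pi.π K (n + 1) ≫ t n
  obtain ⟨L, p, δ, hT⟩ := Pretriangulated.distinguished_cocone_triangle₁ d
  let a : ∀ n, L ⟶ K n := fun n => p ≫ Pi.π K n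
  have hp : Pi.lift a = p := Pi.hom_ext _ _ fun n => Pi.lift_π _ _
  have hL : CohCx.IsRlimVia K t L a := ⟨δ, by rw [hp]; exact hT⟩
  obtain ⟨e, he⟩ : ∃ e : E ⟶ L, Pi.lift (CohCx.toTruncTower E) = e ≫ p :=
    Pretriangulated.Triangle.coyoneda_exact₂ _ hT (Pi.lift (CohCx.toTruncTower E)) (Pi.hom_ext _ _ fun n => by
      show (Pi.lift (CohCx.toTruncTower E) ≫ d) ≫ Pi.π K n = 0 ≫ Pi.π K n
      simp only [d, Category.assoc, Pi.lift_π, Preadditive.comp_sub, zero_comp]
      erw [Pi.lift_π, Pi.lift_π_assoc]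
      rw [sub_eq_zero]
      exact (TStructure.t.π_natTransTruncGEOfLE_app _ _ (by omega) E).symm)
  have hea : ∀ n, e ≫ a n = CohCx.toTruncTower E n := fun n => by rw [← Category.assoc, ← he, Pi.lift_π]
  refine ⟨L, a, e, hL, hea, ?_⟩
  rw [DerivedCategory.isIso_iff]
  intro m
  have key : ∀ V ∈ B, ∃ N : ℕ, IsIso ((homologyFunctor _ m).map (CohCx.toTruncTower E N)) ∧
      ∀ s : CohCx.freeSheaf J V ⟶ (toAbF O).obj ((homologyFunctor _ m).obj L),
        s ≫ (toAbF O).map ((homologyFunctor _ m).map (a N)) = 0 → s = 0 := fun V hV => by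
    obtain ⟨d, hd⟩ := hB.2 V hV
    let N : ℕ := (-m).toNat + ((d : ℤ) - m).toNat
    refine ⟨N, H9Misc.WayOut.isIso_H_truncGE E _ m (by omega), fun s => toAb_H_injective (a N) m (fun T hT => ?_) s⟩
    obtain ⟨ι, Y, q, hT', hcov, hP⟩ := hd T hT
    exact ⟨ι, Y, q, hT', hcov, fun i => rlim_proj_bijective (hP i) hL m N (by omega)⟩
  refine isIso_of_isIso_toAb _ (mono_of_cover _ hB.1 fun V hV s hs => ?_)
    (epi_of_cover _ hB.1 fun V hV t => ⟨⊤, J.top_mem V, fun W f _ => ?_⟩)
  · obtain ⟨N, hN, -⟩ := key V hV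
    have h := congrArg (· ≫ (toAbF O).map ((homologyFunctor _ m).map (a N))) hs
    simp only [Category.assoc, ← Functor.map_comp, hea, zero_comp] at h
    exact (cancel_mono _).1 (h.trans zero_comp.symm)
  · obtain ⟨N, hN, hinj⟩ := key V hV
    let π := (toAbF O).map ((homologyFunctor _ m).map (CohCx.toTruncTower E N))
    refine ⟨CohCx.freeSheafMap J f ≫ t ≫ (toAbF O).map ((homologyFunctor _ m).map (a N)) ≫ inv π, ?_⟩
    simp only [Category.assoc]
    congr 1
    rw [← sub_eq_zero]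
    refine hinj _ ?_
    simp only [Preadditive.sub_comp, Category.assoc, ← Functor.map_comp, hea]
    simp [π]

/-- `Hom(freeAt U, E[m]) → Hom(freeAt U, τ_{≥ -n} E[m])` is bijective in the stable range. -/
theorem postBij_toTruncTower {B : Set C} (hB : LocBdd E B) {U : C} {d : ℕ}
    (hU : ∀ q : ℤ, VanishAbove (freeAt O U) ((homologyFunctor _ q).obj E) d) (m : ℤ) (n : ℕ)
    (hn : (d : ℤ) < m + n + 1) : PostBij (CohCx.toTruncTower E n) m U := by
  have : HasLimitsOfShape (Discrete ℕ) (DerivedCategory (ModSite.Mod O)) :=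
    TriCat.hasProductsOfShape_derivedCategory fun L => by
      obtain ⟨I, g, hI, hg, -, -⟩ := TriCat.exists_kInjective_resolution' L
      exact ⟨I, g, hI, hg⟩
  obtain ⟨L, a, e, hL, hea, he⟩ := exists_isIso_rlim hB
  have h1 := rlim_proj_bijective hU hL m n hn
  exact postcomp_bij_conj (CohCx.toTruncTower E n) (a n) (asIso e) (Iso.refl _)
    (by simp [hea]) m h1

end Groth.Agent.SiteCmpC
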