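import Groth.Prelude.Def_SiteCmp
import Groth.Agent.SiteBase.Sections
import Groth.Agent.SiteCmpC.DerivedSub
import Mathlib.CategoryTheory.Abelian.SerreClass.Basic
import Mathlib.GroupTheory.FreeAbelianGroup
import Mathlib.Algebra.FreeAbelianGroup.Finsupp

/-! The torsion subsheaf, and the derived category of torsion sheaves. -/

set_option autoImplicit false

universe u

open CategoryTheory CategoryTheory.Limits Opposite DerivedCategory

attribute [local instance] HasDerivedCategory.standard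

namespace Groth.Agent.SiteCmpC

open Groth.Agent.SiteBase Groth.Agent.H9Misc

variable {C : Type u} [SmallCategory C] {J : GrothendieckTopology C}

/-- Locally torsion sections. -/
def torsSec (F : Sheaf J AddCommGrpCat.{u}) (U : Cᵒᵖ) : AddSubgroup (F.obj.obj U) where
  carrier := {s | ∃ S ∈ J U.unop, ∀ ⦃V : C⦄ (g : V ⟶ U.unop), S g → IsOfFinAddOrder ((F.obj.map g.op).hom s)}
  zero_mem' := ⟨⊤, J.top_mem _, fun V g _ => by rw [map_zero]; exact IsOfFinAddOrder.zero⟩
  add_mem' := by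
    rintro a b ⟨S, hS, ha⟩ ⟨T, hT, hb⟩
    refine ⟨S ⊓ T, J.intersection_covering hS hT, fun V g hg => ?_⟩
    rw [map_add]
    exact AddCommute.isOfFinAddOrder_add (AddCommute.all _ _) (ha g hg.1) (hb g hg.2)
  neg_mem' := by
    rintro a ⟨S, hS, ha⟩
    refine ⟨S, hS, fun V g hg => ?_⟩
    rw [map_neg]
    exact (ha g hg).neg

lemma map_mem_torsSec (F : Sheaf J AddCommGrpCat.{u}) {U V : Cᵒᵖ} (f : U ⟶ V) {s : F.obj.obj U}
    (hs : s ∈ torsSec F U) : (F.obj.map f).hom s ∈ torsSec F V := by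
  obtain ⟨S, hS, h⟩ := hs
  refine ⟨S.pullback f.unop, J.pullback_stable _ hS, fun W g hg => ?_⟩
  have := h (g ≫ f.unop) hg
  rwa [op_comp, Quiver.Hom.op_unop, F.obj.map_comp] at this

/-- The presheaf of locally torsion sections. -/
def torsPresheaf (F : Sheaf J AddCommGrpCat.{u}) : Cᵒᵖ ⥤ AddCommGrpCat.{u} where
  obj U := AddCommGrpCat.of (torsSec F U)
  map {U V} f := AddCommGrpCat.ofHom
    (((F.obj.map f).hom.comp (torsSec F U).subtype).codRestrict (torsSec F V) fun s => map_mem_torsSec F f s.2)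
  map_id U := by ext s; simp
  map_comp f g := by ext s; simp

lemma isSheaf_torsPresheaf (F : Sheaf J AddCommGrpCat.{u}) : Presheaf.IsSheaf J (torsPresheaf F) := by
  rw [Presheaf.isSheaf_iff_isSheaf_comp J _ (forget AddCommGrpCat.{u}), isSheaf_iff_isSheaf_of_type]
  intro U S hS x hx
  have hF := (isSheaf_iff_isSheaf_of_type _ _).1 ((Presheaf.isSheaf_iff_isSheaf_comp J _ (forget AddCommGrpCat.{u})).1 F.2) S hS
  let x' : Presieve.FamilyOfElements (F.obj ⋙ forget AddCommGrpCat.{u}) S.arrows := fun V g hg => (x g hg).1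
  have hx' : x'.Compatible := fun Y₁ Y₂ Z g₁ g₂ f₁ f₂ h₁ h₂ e => congrArg Subtype.val (hx g₁ g₂ h₁ h₂ e)
  obtain ⟨s, hs, huniq⟩ := hF x' hx'
  have hmem : s ∈ torsSec F (op U) := by
    choose T hT hTs using fun (V : C) (g : V ⟶ U) (hg : S g) => (x g hg).2
    refine ⟨Sieve.bind S.arrows (fun V g hg => T V g hg), J.bind_covering hS (fun V g hg => hT V g hg), ?_⟩
    rintro W g ⟨V, a, b, hb, ha, rfl⟩
    have := hTs V b hb a ha
    rw [show (x b hb).1 = (F.obj.map b.op).hom s from (hs b hb).symm] at this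
    rw [op_comp, F.obj.map_comp]
    exact this
  exact ⟨⟨s, hmem⟩, fun V g hg => Subtype.ext (hs g hg),
    fun t ht => Subtype.ext (huniq t.1 fun V g hg => congrArg Subtype.val (ht g hg))⟩

/-- The torsion subsheaf. -/
def torsSheaf (F : Sheaf J AddCommGrpCat.{u}) : Sheaf J AddCommGrpCat.{u} := ⟨torsPresheaf F, isSheaf_torsPresheaf F⟩

/-- Its inclusion. -/
def torsIncl (F : Sheaf J AddCommGrpCat.{u}) : torsSheaf F ⟶ F :=
  ⟨{ app := fun U => AddCommGrpCat.ofHom (torsSec F U).subtype }⟩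

lemma torsion_torsSheaf (F : Sheaf J AddCommGrpCat.{u}) : SiteCmp.torsionSh J (torsSheaf F) := fun U s => by
  obtain ⟨S, hS, h⟩ := s.2
  refine ⟨S, hS, fun V g hg => ?_⟩
  exact (Function.Injective.isOfFinAddOrder_iff (f := (torsSec F (op V)).subtype) Subtype.val_injective).1 (h g hg)

lemma map_mem_of_torsion {M F : Sheaf J AddCommGrpCat.{u}} (hM : SiteCmp.torsionSh J M) (φ : M ⟶ F) (U : Cᵒᵖ)
    (s : M.obj.obj U) : (φ.hom.app U).hom s ∈ torsSec F U := by
  obtain ⟨S, hS, h⟩ := hM U.unop s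
  refine ⟨S, hS, fun V g hg => ?_⟩
  rw [show (F.obj.map g.op).hom ((φ.hom.app U).hom s) = (φ.hom.app (op V)).hom ((M.obj.map g.op).hom s) from
    (ConcreteCategory.congr_hom (φ.hom.naturality g.op) s).symm]
  exact (φ.hom.app (op V)).hom.isOfFinAddOrder (h g hg)

/-- Morphisms from a torsion sheaf land in the torsion subsheaf. -/
def torsLift {M F : Sheaf J AddCommGrpCat.{u}} (hM : SiteCmp.torsionSh J M) (φ : M ⟶ F) : M ⟶ torsSheaf F :=
  ⟨{ app := fun U => AddCommGrpCat.ofHom ((φ.hom.app U).hom.codRestrict _ (map_mem_of_torsion hM φ U))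
     naturality := fun U V f => by
       ext s
       exact Subtype.ext (ConcreteCategory.congr_hom (φ.hom.naturality f) s) }⟩

lemma torsLift_incl {M F : Sheaf J AddCommGrpCat.{u}} (hM : SiteCmp.torsionSh J M) (φ : M ⟶ F) :
    torsLift hM φ ≫ torsIncl F = φ := by ext U s; rfl

instance mono_torsIncl (F : Sheaf J AddCommGrpCat.{u}) : Mono (torsIncl F) :=
  ⟨fun a b h => by
    ext U s
    exact Subtype.ext (congrArg (fun t => (t.hom.app U).hom s) h)⟩

variable (J) in
/-- The torsion subsheaf functor. -/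
def torsFunctor : Sheaf J AddCommGrpCat.{u} ⥤ (SiteCmp.torsionSh J).FullSubcategory where
  obj F := ⟨torsSheaf F, torsion_torsSheaf F⟩
  map {F G} φ := ObjectProperty.homMk (torsLift (torsion_torsSheaf F) (torsIncl F ≫ φ))
  map_id F := by ext U s; rfl
  map_comp φ ψ := by ext U s; rfl

variable (J) in
/-- It is right adjoint to the inclusion. -/
def torsAdj : (SiteCmp.torsionSh J).ι ⊣ torsFunctor J :=
  Adjunction.mkOfHomEquiv
    { homEquiv := fun M F =>
        { toFun := fun φ => ObjectProperty.homMk (torsLift M.2 φ)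
          invFun := fun ψ => ψ.hom ≫ torsIncl F
          left_inv := fun φ => torsLift_incl M.2 φ
          right_inv := fun ψ => by ext U s; rfl }
      homEquiv_naturality_left_symm := fun f g => by
        show (f ≫ g).hom ≫ torsIncl _ = f.hom ≫ g.hom ≫ torsIncl _
        exact Category.assoc _ _ _
      homEquiv_naturality_right := fun f g => by ext U s; rfl }

lemma nsmul_app (F : Sheaf J AddCommGrpCat.{u}) (n : ℕ) (U : Cᵒᵖ) (s : F.obj.obj U) :
    (((n • 𝟙 F : F ⟶ F)).hom.app U).hom s = n • s := by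
  induction n with
  | zero => simp only [zero_smul]; rfl
  | succ n ih =>
    rw [succ_nsmul, succ_nsmul, ← ih]
    rfl

lemma app_injective {F G : Sheaf J AddCommGrpCat.{u}} (φ : F ⟶ G) [Mono φ] (U : Cᵒᵖ) :
    Function.Injective (φ.hom.app U).hom := by
  have : Mono ((sheafToPresheaf J AddCommGrpCat.{u}).map φ) := inferInstance
  exact (AddCommGrpCat.mono_iff_injective _).1 (inferInstanceAs (Mono (((sheafToPresheaf J AddCommGrpCat.{u}).map φ).app U)))

lemma torsion_kernel_nsmul (F : Sheaf J AddCommGrpCat.{u}) {n : ℕ} (hn : 0 < n) :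
    SiteCmp.torsionSh J (kernel (n • 𝟙 F : F ⟶ F)) := fun U s => by
  refine ⟨⊤, J.top_mem U, fun V g _ => isOfFinAddOrder_iff_nsmul_eq_zero.2 ⟨n, hn, ?_⟩⟩
  apply app_injective (kernel.ι (n • 𝟙 F : F ⟶ F)) (op V)
  rw [map_nsmul, map_zero, ← nsmul_app]
  exact congrArg (fun t : kernel (n • 𝟙 F : F ⟶ F) ⟶ F => (t.hom.app (op V)).hom
    (((kernel (n • 𝟙 F : F ⟶ F)).obj.map g.op).hom s)) (kernel.condition (n • 𝟙 F : F ⟶ F))

/-- A torsion sheaf on which every positive integer is injective vanishes. -/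
lemma isZero_of_torsion {F : Sheaf J AddCommGrpCat.{u}} (hF : SiteCmp.torsionSh J F)
    (h : ∀ n : ℕ, 0 < n → Mono (n • 𝟙 F : F ⟶ F)) : IsZero F := by
  refine (IsZero.iff_id_eq_zero _).2 ?_
  ext U s
  obtain ⟨S, hS, hs⟩ := hF U.unop s
  refine (((isSheaf_iff_isSheaf_of_type _ _).1 ((Presheaf.isSheaf_iff_isSheaf_comp J _ (forget AddCommGrpCat.{u})).1 F.2)).isSeparated S hS).ext
      fun V g hg => ?_
  obtain ⟨n, hn, hn'⟩ := isOfFinAddOrder_iff_nsmul_eq_zero.1 (hs g hg)
  have := h n hn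
  have hi := app_injective (n • 𝟙 F : F ⟶ F) (op V)
  have h0 : (F.obj.map g.op).hom s = 0 := hi (by rw [map_zero, nsmul_app, hn'])
  exact h0.trans (map_zero (F.obj.map g.op).hom).symm

lemma free_nsmul_injective (T : Type u) {n : ℕ} (hn : 0 < n) (x y : FreeAbelianGroup T) (h : n • x = n • y) : x = y := by
  apply (FreeAbelianGroup.equivFinsupp T).injective
  ext t
  have := congrArg (fun z => FreeAbelianGroup.equivFinsupp T z t) h
  simp only [map_nsmul, Finsupp.coe_smul, Pi.smul_apply, nsmul_eq_mul] at this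
  exact mul_left_cancel₀ (by exact_mod_cast hn.ne') this

lemma mono_nsmul_freeSheaf (U : C) {n : ℕ} (hn : 0 < n) :
    Mono (n • 𝟙 (CohCx.freeSheaf J U) : CohCx.freeSheaf J U ⟶ _) := by
  let Fp := yoneda.obj U ⋙ AddCommGrpCat.free.{u}
  have hp : Mono (n • 𝟙 Fp : Fp ⟶ Fp) := by
    have : ∀ V, Mono ((n • 𝟙 Fp : Fp ⟶ Fp).app V) := fun V => by
      rw [NatTrans.app_nsmul, AddCommGrpCat.mono_iff_injective]
      intro x y h
      exact free_nsmul_injective _ hn x y h
    exact NatTrans.mono_of_mono_app _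
  have := (presheafToSheaf J AddCommGrpCat.{u}).map_mono (n • 𝟙 Fp : Fp ⟶ Fp)
  rw [(presheafToSheaf J AddCommGrpCat.{u}).map_nsmul, CategoryTheory.Functor.map_id] at this
  exact this

lemma epi_nsmul_of_injective (I : Sheaf J AddCommGrpCat.{u}) [Injective I] {n : ℕ} (hn : 0 < n) :
    Epi (n • 𝟙 I : I ⟶ I) := by
  have : ∀ U, Epi ((n • 𝟙 I : I ⟶ I).hom.app U) := fun U => by
    rw [AddCommGrpCat.epi_iff_surjective]
    intro s
    have := mono_nsmul_freeSheaf (J := J) U.unop hn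
    let ψ := (secEquiv J U.unop I).symm s
    refine ⟨secEquiv J U.unop I (Injective.factorThru ψ (n • 𝟙 (CohCx.freeSheaf J U.unop))), ?_⟩
    have h := Injective.comp_factorThru ψ (n • 𝟙 (CohCx.freeSheaf J U.unop))
    rw [Preadditive.nsmul_comp, Category.id_comp] at h
    rw [nsmul_app, ← map_nsmul, h]
    exact AddEquiv.apply_symm_apply _ _
  exact ⟨fun a b h => by
    ext U s
    obtain ⟨t, rfl⟩ := (AddCommGrpCat.epi_iff_surjective _).1 (this U) s
    exact congrArg (fun k => (k.hom.app U).hom t) h⟩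

variable [(SiteCmp.torsionSh J).IsSerreClass]

/-- Positive integers are invertible on the quotient of an injective sheaf by its torsion. -/
lemma isIso_nsmul_cokernel (I : Sheaf J AddCommGrpCat.{u}) [Injective I] {n : ℕ} (hn : 0 < n) :
    IsIso (n • 𝟙 (cokernel (torsIncl I)) : cokernel (torsIncl I) ⟶ _) := by
  let π := cokernel.π (torsIncl I)
  have hcomm : π ≫ (n • 𝟙 _) = (n • 𝟙 I) ≫ π := by simp
  have : Epi (n • 𝟙 (cokernel (torsIncl I)) : cokernel (torsIncl I) ⟶ _) := by
    have := epi_nsmul_of_injective I hn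
    have h : Epi (π ≫ (n • 𝟙 (cokernel (torsIncl I)) : cokernel (torsIncl I) ⟶ _)) := by
      rw [hcomm]; exact epi_comp _ _
    exact epi_of_epi π _
  let M := kernel ((n • 𝟙 I) ≫ π)
  have hM : SiteCmp.torsionSh J M := by
    let hk : KernelFork.ofι (torsIncl I) (cokernel.condition _) = _ := rfl
    let m : M ⟶ torsSheaf I := (Abelian.monoIsKernelOfCokernel _ (cokernelIsCokernel (torsIncl I))).lift
      (KernelFork.ofι (kernel.ι ((n • 𝟙 I) ≫ π) ≫ (n • 𝟙 I)) (by rw [Category.assoc]; exact kernel.condition _))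
    have hm : m ≫ torsIncl I = kernel.ι ((n • 𝟙 I) ≫ π) ≫ (n • 𝟙 I) :=
      Fork.IsLimit.lift_ι _
    let a : kernel (n • 𝟙 I) ⟶ M := kernel.lift _ (kernel.ι _) (by rw [kernel.condition_assoc, zero_comp])
    have ha : a ≫ m = 0 := by
      rw [← cancel_mono (torsIncl I), Category.assoc, hm, kernel.lift_ι_assoc, kernel.condition, zero_comp]
    refine (SiteCmp.torsionSh J).prop_X₂_of_exact (S := ShortComplex.mk a m ha) ?_
      (torsion_kernel_nsmul I hn) (torsion_torsSheaf I)
    rw [ShortComplex.exact_iff_exact_up_to_refinements]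
    intro T x hx
    dsimp at x hx ⊢
    have hx' : (x ≫ kernel.ι ((n • 𝟙 I) ≫ π)) ≫ (n • 𝟙 I) = 0 := by
      rw [Category.assoc, ← hm, ← Category.assoc, hx, zero_comp]
    exact ⟨T, 𝟙 T, inferInstance, kernel.lift _ _ hx', by rw [← cancel_mono (kernel.ι ((n • 𝟙 I) ≫ π))]; simp [a]⟩
  have : Mono (n • 𝟙 (cokernel (torsIncl I)) : cokernel (torsIncl I) ⟶ _) := by
    refine Preadditive.mono_of_cancel_zero _ fun {Z} g hg => ?_
    obtain ⟨Z', q, hq, y, hy⟩ := surjective_up_to_refinements_of_epi π g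
    have hy' : y ≫ (n • 𝟙 I) ≫ π = 0 := by rw [← hcomm, ← reassoc_of% hy, hg, comp_zero]
    have hM0 : kernel.ι ((n • 𝟙 I) ≫ π) ≫ π = 0 := by
      rw [← torsLift_incl hM (kernel.ι ((n • 𝟙 I) ≫ π)), Category.assoc, cokernel.condition, comp_zero]
    rw [← cancel_epi q, hy, comp_zero, ← kernel.lift_ι _ y hy', Category.assoc, hM0, comp_zero]
  exact isIso_of_mono_of_epi _

end Groth.Agent.SiteCmpC
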